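import Groth.Agent.Lib.FinQuot.Scheme
import Groth.Agent.Lib.H12.FlatComp
import Groth.Agent.Lib.FlatH4.FlatLocusScheme
import Groth.Agent.Lib.FlatH4.FibreCritScheme
import Mathlib.AlgebraicGeometry.ZariskisMainTheorem
import Mathlib.AlgebraicGeometry.Morphisms.UniversallyOpen
import Mathlib.AlgebraicGeometry.Morphisms.Separated

/-!
# The good locus of a sliced equivalence relation is saturated
-/

universe u

set_option backward.isDefEq.respectTransparency.types false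

open CategoryTheory CategoryTheory.Limits AlgebraicGeometry

namespace Groth.Agent.Slice

variable {X Y Z P : Scheme.{u}}

theorem flat_stalkMap_congr {f g : X ⟶ Y} (h : f = g) (x : X) (hf : (f.stalkMap x).hom.Flat) :
    (g.stalkMap x).hom.Flat := by
  subst h
  exact hf

variable {pr : P ⟶ X} {g : P ⟶ Y} {f : X ⟶ Z} {v : Y ⟶ Z}

theorem flat_stalkMap_of_isPullback (sq : IsPullback pr g f v) [Flat v] (z : P)
    (hz : (g.stalkMap z).hom.Flat) : (f.stalkMap (pr z)).hom.Flat := by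
  have : Flat pr := MorphismProperty.of_isPullback (P := @Flat) sq.flip ‹_›
  refine H12.flat_stalkMap_of_comp pr f z (Flat.stalkMap pr z) (flat_stalkMap_congr sq.w.symm z ?_)
  rw [Scheme.Hom.stalkMap_comp]
  exact (Flat.stalkMap v (g z)).comp hz

theorem quasiFiniteAt_iff_of_fiberι [LocallyOfFiniteType f] {x : X} {y : Z} (w : f.fiber y)
    (hw : f.fiberι y w = x) : f.QuasiFiniteAt x ↔ IsOpen {w} := by
  have hy : f x = y := by
    have : f.fiberι y w ∈ Set.range (f.fiberι y) := ⟨w, rfl⟩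
    rw [Scheme.Hom.range_fiberι, hw] at this
    exact this
  subst hy
  rw [(f.fiberι _).isEmbedding.injective (hw.trans (f.fiberι_asFiber x).symm)]
  exact Scheme.Hom.quasiFiniteAt_iff_isOpen_singleton_asFiber

theorem quasiFiniteAt_of_isPullback (sq : IsPullback pr g f v) [LocallyOfFiniteType f] (z : P)
    (hz : g.QuasiFiniteAt z) : f.QuasiFiniteAt (pr z) := by
  have : LocallyOfFiniteType g := MorphismProperty.of_isPullback (P := @LocallyOfFiniteType) sq ‹_›
  have hsq := isPullback_fiberToSpecResidueField_of_isPullback sq (g z)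
  let k : g.fiber (g z) ⟶ f.fiber (v (g z)) :=
    pullback.map _ _ _ _ pr (Spec.map (v.residueFieldMap (g z))) v sq.w.symm (by simp)
  have : UniversallyOpen k := MorphismProperty.of_isPullback (P := @UniversallyOpen) hsq.flip
    (inferInstance : UniversallyOpen (Spec.map (v.residueFieldMap (g z))))
  refine (quasiFiniteAt_iff_of_fiberι (k (g.asFiber z)) ?_).2 ?_
  · rw [← Scheme.Hom.comp_apply]
    have : k ≫ f.fiberι (v (g z)) = g.fiberι (g z) ≫ pr := pullback.lift_fst _ _ _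
    rw [this, Scheme.Hom.comp_apply, Scheme.Hom.fiberι_asFiber]
  · rw [← Set.image_singleton]
    exact k.isOpenMap _ ((quasiFiniteAt_iff_of_fiberι _ (g.fiberι_asFiber z)).1 hz)

/-- Flat and quasi-finite at a point. -/
def GoodAt (f : X ⟶ Y) (x : X) : Prop := (f.stalkMap x).hom.Flat ∧ f.QuasiFiniteAt x

theorem isOpen_goodAt (f : X ⟶ Y) [LocallyOfFinitePresentation f] : IsOpen {x | GoodAt f x} :=
  (FlatH4.isOpen_flatLocus f).inter f.isOpen_quasiFiniteAt

theorem goodAt_comp_left_iff (e : X ⟶ Y) [IsOpenImmersion e] (f : Y ⟶ Z) (x : X) :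
    GoodAt (e ≫ f) x ↔ GoodAt f (e x) :=
  and_congr (FlatH4.flat_stalkMap_comp_left_iff e f x)
    Scheme.Hom.quasiFiniteAt_comp_iff_of_isOpenImmersion

theorem goodAt_comp_right_iff (e : X ⟶ Y) (i : Y ⟶ Z) [IsOpenImmersion i] (x : X) :
    GoodAt (e ≫ i) x ↔ GoodAt e x :=
  and_congr (FlatH4.flat_stalkMap_comp_right_iff e i x) Scheme.Hom.quasiFiniteAt_comp_iff

theorem goodAt_of_isPullback (sq : IsPullback pr g f v) [Flat v] [LocallyOfFiniteType f] (z : P)
    (hz : GoodAt g z) : GoodAt f (pr z) :=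
  ⟨flat_stalkMap_of_isPullback sq z hz.1, quasiFiniteAt_of_isPullback sq z hz.2⟩

theorem goodAt_of_isPullback' (sq : IsPullback pr g f v) [LocallyOfFinitePresentation f] (z : P)
    (hz : GoodAt f (pr z)) : GoodAt g z := by
  let W : X.Opens := ⟨{x | GoodAt f x}, isOpen_goodAt f⟩
  have : Flat (W.ι ≫ f) := Flat.of_stalkMap _ fun x =>
    ((goodAt_comp_left_iff W.ι f x).2 (show GoodAt f x.1 from x.2)).1
  have : LocallyQuasiFinite (W.ι ≫ f) := by
    rw [← Scheme.Hom.quasiFiniteLocus_eq_top_iff, eq_top_iff]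
    intro x _
    exact ((goodAt_comp_left_iff W.ι f x).2 (show GoodAt f x.1 from x.2)).2
  have sq' : IsPullback (pr ∣_ W) ((pr ⁻¹ᵁ W).ι ≫ g) (W.ι ≫ f) v :=
    (isPullback_morphismRestrict pr W).paste_vert sq
  have hfl : Flat ((pr ⁻¹ᵁ W).ι ≫ g) := MorphismProperty.of_isPullback (P := @Flat) sq' ‹_›
  have hqf : LocallyQuasiFinite ((pr ⁻¹ᵁ W).ι ≫ g) :=
    MorphismProperty.of_isPullback (P := @LocallyQuasiFinite) sq' ‹_›
  have : LocallyOfFiniteType g := MorphismProperty.of_isPullback (P := @LocallyOfFiniteType) sq inferInstance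
  exact (goodAt_comp_left_iff (pr ⁻¹ᵁ W).ι g ⟨z, hz⟩).1 ⟨Flat.stalkMap _ _, Scheme.Hom.quasiFiniteAt _ _⟩

section Saturated

variable {U R : Scheme.{u}} {s t : R ⟶ U} (h : FinQuot.SchEqv s t) (g₀ : Y ⟶ U)

include h in
/-- Flatness and quasi-finiteness at a point of the sliced relation only depend on the point of the
slice. -/
theorem goodAt_of_fst_eq [Flat s] [LocallyOfFinitePresentation t] [LocallyOfFinitePresentation g₀]
    {r₁ r₂ : ↥(pullback g₀ s)} (e : pullback.fst g₀ s r₁ = pullback.fst g₀ s r₂)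
    (hr : GoodAt (pullback.snd g₀ s ≫ t) r₁) : GoodAt (pullback.snd g₀ s ≫ t) r₂ := by
  obtain ⟨i, hi₁, hi₂⟩ := h.symm
  have : IsIso i := by
    refine ⟨i, h.ext _ _ ?_ ?_, h.ext _ _ ?_ ?_⟩ <;> simp [hi₁, hi₂]
  let π := pullback.fst g₀ s
  let ρ := pullback.snd g₀ s
  let hh := ρ ≫ t
  have hπρ : π ≫ g₀ = ρ ≫ s := pullback.condition
  let p₁ := pullback.fst π π
  let p₂ := pullback.snd π π
  have hp : p₁ ≫ π = p₂ ≫ π := pullback.condition
  obtain ⟨a, ha₁, ha₂⟩ := h.trans ((p₂ ≫ ρ) ≫ i) (p₁ ≫ ρ) (by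
    simp only [Category.assoc, hi₂, ← hπρ]
    rw [← Category.assoc, ← hp, Category.assoc])
  simp only [Category.assoc, hi₁] at ha₁ ha₂
  have hext : ∀ {T : Scheme.{u}} (l l' : T ⟶ pullback π π), l ≫ p₂ = l' ≫ p₂ → l ≫ a = l' ≫ a → l = l' := by
    intro T l l' h₁ h₂
    refine pullback.hom_ext (pullback.hom_ext ?_ (h.ext _ _ ?_ ?_)) h₁
    · change (l ≫ p₁) ≫ π = (l' ≫ p₁) ≫ π
      rw [Category.assoc, Category.assoc, hp, reassoc_of% h₁]
    · change ((l ≫ p₁) ≫ ρ) ≫ s = ((l' ≫ p₁) ≫ ρ) ≫ s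
      simp only [Category.assoc, ← hπρ]
      rw [reassoc_of% hp, reassoc_of% h₁]
    · change ((l ≫ p₁) ≫ ρ) ≫ t = ((l' ≫ p₁) ≫ ρ) ≫ t
      simp only [Category.assoc, ← ha₂]
      rw [reassoc_of% h₂]
  have hlift : ∀ {T : Scheme.{u}} (r : T ⟶ pullback g₀ s) (a' : T ⟶ R), r ≫ hh = a' ≫ s →
      ∃ l : T ⟶ pullback π π, l ≫ p₂ = r ∧ l ≫ a = a' := by
    intro T r a' hr'
    obtain ⟨q, hq₁, hq₂⟩ := h.trans (r ≫ ρ) a' (by rw [Category.assoc]; exact hr')
    rw [Category.assoc, ← hπρ, ← Category.assoc] at hq₁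
    let r₁' := pullback.lift (f := g₀) (g := s) (r ≫ π) q hq₁.symm
    have h₁ : r₁' ≫ π = r ≫ π := pullback.lift_fst _ _ _
    refine ⟨pullback.lift r₁' r h₁, pullback.lift_snd _ _ _, h.ext _ _ ?_ ?_⟩
    · rw [Category.assoc, ha₁, ← hr', pullback.lift_snd_assoc]
    · rw [Category.assoc, ha₂, pullback.lift_fst_assoc, pullback.lift_snd_assoc]
      exact hq₂
  have sq₂ : IsPullback p₂ a hh s := by
    refine ⟨⟨ha₁.symm⟩, ⟨PullbackCone.IsLimit.mk _ (fun c => (hlift c.fst c.snd c.condition).choose)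
      (fun c => (hlift c.fst c.snd c.condition).choose_spec.1)
      (fun c => (hlift c.fst c.snd c.condition).choose_spec.2) fun c m hm₁ hm₂ => hext _ _ ?_ ?_⟩⟩
    · exact hm₁.trans (hlift c.fst c.snd c.condition).choose_spec.1.symm
    · exact hm₂.trans (hlift c.fst c.snd c.condition).choose_spec.2.symm
  let σ : pullback π π ≅ pullback π π := pullbackSymmetry π π
  have hσ₁ : σ.hom ≫ p₂ = p₁ := pullbackSymmetry_hom_comp_snd π π
  have hσ₂ : σ.hom ≫ p₁ = p₂ := pullbackSymmetry_hom_comp_fst π π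
  have hσa : σ.hom ≫ a = a ≫ i := by
    refine h.ext _ _ ?_ ?_
    · simp only [Category.assoc, ha₁, hi₁, ha₂, reassoc_of% hσ₁]
    · simp only [Category.assoc, ha₂, hi₂, ha₁, reassoc_of% hσ₂]
  have sq₁ : IsPullback p₁ (a ≫ i) hh s := by
    rw [← hσ₁, ← hσa]
    exact sq₂.of_iso σ.symm (Iso.refl _) (Iso.refl _) (Iso.refl _) (by simp) (by simp) (by simp) (by simp)
  obtain ⟨z, hz₁, hz₂⟩ := Scheme.Pullback.exists_preimage_pullback r₁ r₂ e
  rw [← hz₁] at hr
  rw [← hz₂]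
  have h₁ : GoodAt (a ≫ i) z := goodAt_of_isPullback' sq₁ z hr
  exact goodAt_of_isPullback sq₂ z ((goodAt_comp_right_iff a i z).1 h₁)

end Saturated

end Groth.Agent.Slice
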