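import Groth.Agent.Lib.Slice.Scheme
import Mathlib.AlgebraicGeometry.Limits
import Mathlib.AlgebraicGeometry.Morphisms.Immersion

/-!
# A flat, finitely presented, quasi-finite slice of an equivalence relation
-/

universe u

set_option backward.isDefEq.respectTransparency.types false

open CategoryTheory CategoryTheory.Limits AlgebraicGeometry

namespace Groth.Agent.Slice

/-- A coproduct of morphisms is separated if each of them is. -/
theorem isSeparated_sigmaDesc {S : Scheme.{u}} {ι : Type u} (X : ι → Scheme.{u}) (f : ∀ i, X i ⟶ S)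
    [∀ i, IsSeparated (f i)] : IsSeparated (Sigma.desc f) := by
  let F := Sigma.desc f
  have hcov : ∀ y : ↥(∐ X), ∃ i, ∃ x : X i, Sigma.ι X i x = y := fun y => by
    obtain ⟨i, x, hx⟩ := (sigmaOpenCover X).exists_eq y
    exact ⟨i, x, hx⟩
  refine ⟨IsClosedImmersion.of_isPreimmersion _ (isOpen_compl_iff.1 (isOpen_iff_forall_mem_open.2 fun z hz => ?_))⟩
  obtain ⟨i, a, ha⟩ := hcov (pullback.fst F F z)
  obtain ⟨j, b, hb⟩ := hcov (pullback.snd F F z)
  by_cases hij : i = j
  · subst hij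
    let m := pullback.map (f i) (f i) F F (Sigma.ι X i) (Sigma.ι X i) (𝟙 S) (by simp [F]) (by simp [F])
    have hm : IsOpenImmersion m := inferInstance
    have hzm : z ∈ Set.range m := by
      rw [Scheme.Pullback.range_map]
      exact ⟨⟨a, ha⟩, ⟨b, hb⟩⟩
    obtain ⟨z', rfl⟩ := hzm
    have hzn : z' ∉ Set.range (pullback.diagonal (f i)) := by
      rintro ⟨w, rfl⟩
      refine hz ⟨Sigma.ι X i w, ?_⟩
      rw [← Scheme.Hom.comp_apply, ← Scheme.Hom.comp_apply]
      refine congrArg (fun φ : X i ⟶ pullback F F => φ w) ?_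
      apply pullback.hom_ext <;> simp [m, F, pullback.map, pullback.lift_fst, pullback.lift_snd]
    refine ⟨m '' (Set.range (pullback.diagonal (f i)))ᶜ, ?_,
      m.isOpenEmbedding.isOpenMap _ (pullback.diagonal (f i)).isClosedEmbedding.isClosed_range.isOpen_compl,
      ⟨z', hzn, rfl⟩⟩
    rintro _ ⟨w, hw, rfl⟩ ⟨y, hy⟩
    obtain ⟨i', y', rfl⟩ := hcov y
    have h1 := congrArg (pullback.fst F F) hy
    simp only [m, ← Scheme.Hom.comp_apply] at h1
    simp only [Category.assoc, Category.comp_id, pullback.lift_fst, pullback.map] at h1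
    rw [show pullback.diagonal (Sigma.desc f) ≫ pullback.fst F F = 𝟙 _ from pullback.diagonal_fst _,
      Scheme.Hom.comp_apply] at h1
    obtain rfl : i' = i := congrArg Sigma.fst ((sigmaι_eq_iff _ _ _ _ _).mp h1)
    refine hw ⟨y', m.isOpenEmbedding.injective ?_⟩
    rw [← hy, ← Scheme.Hom.comp_apply, ← Scheme.Hom.comp_apply]
    refine congrArg (fun φ : X i' ⟶ pullback F F => φ y') ?_
    apply pullback.hom_ext <;> simp [m, F, pullback.map, pullback.lift_fst, pullback.lift_snd]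
  · refine ⟨((pullback.fst F F) ⁻¹' Set.range (Sigma.ι X i)) ∩ (pullback.snd F F) ⁻¹' Set.range (Sigma.ι X j),
      ?_, ((Sigma.ι X i).isOpenEmbedding.isOpen_range.preimage (pullback.fst F F).continuous).inter
        ((Sigma.ι X j).isOpenEmbedding.isOpen_range.preimage (pullback.snd F F).continuous),
      ⟨⟨a, ha⟩, ⟨b, hb⟩⟩⟩
    rintro _ ⟨⟨a', ha'⟩, ⟨b', hb'⟩⟩ ⟨y, rfl⟩
    rw [← Scheme.Hom.comp_apply, pullback.diagonal_fst] at ha'
    rw [← Scheme.Hom.comp_apply, pullback.diagonal_snd] at hb'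
    exact hij (congrArg Sigma.fst ((sigmaι_eq_iff _ _ _ _ _).mp (ha'.trans hb'.symm)))

variable {U R : Scheme.{u}} {s t : R ⟶ U}

/-- A slicing of a flat, locally finitely presented equivalence relation. -/
theorem exists_slicing (h : FinQuot.SchEqv s t) [Flat s] [LocallyOfFinitePresentation s] [Flat t]
    [LocallyOfFinitePresentation t] :
    ∃ (Y : Scheme.{u}) (g : Y ⟶ U), LocallyOfFinitePresentation g ∧
      (∀ {S : Scheme.{u}} (q : U ⟶ S), IsSeparated (g ≫ q)) ∧
      Flat (pullback.snd g s ≫ t) ∧ LocallyOfFinitePresentation (pullback.snd g s ≫ t) ∧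
      LocallyQuasiFinite (pullback.snd g s ≫ t) ∧ Surjective (pullback.snd g s ≫ t) := by
  let ι := {u : U // ∃ (V : U.Opens) (hV : IsAffineOpen V) (huV : u ∈ V),
    (hV.primeIdealOf ⟨u, huV⟩).asIdeal.IsMaximal}
  have hsl : ∀ i : ι, ∃ (Y : Scheme.{u}) (g : Y ⟶ U), IsAffine Y ∧ LocallyOfFinitePresentation g ∧
      (∀ r, GoodAt (pullback.snd g s ≫ t) r) ∧ i.1 ∈ Set.range (pullback.snd g s ≫ t) := fun i => by
    obtain ⟨V, hV, huV, hu⟩ := i.2
    exact exists_slice_at h i.1 V hV huV hu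
  choose X g hX hg hgood hrange using hsl
  have := hg
  let G := Sigma.desc g
  have hG : LocallyOfFinitePresentation G := IsZariskiLocalAtSource.sigmaDesc hg
  have hlfp : LocallyOfFinitePresentation (pullback.snd G s ≫ t) := inferInstance
  let m : ∀ i, pullback (g i) s ⟶ pullback G s := fun i =>
    pullback.map _ _ _ _ (Sigma.ι X i) (𝟙 R) (𝟙 U) (by simp [G]) (by simp)
  have hm : ∀ i, m i ≫ pullback.snd G s = pullback.snd (g i) s := fun i =>
    (pullback.lift_snd _ _ _).trans (Category.comp_id _)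
  have hgoodG : ∀ x, GoodAt (pullback.snd G s ≫ t) x := by
    intro x
    obtain ⟨i, y, hy⟩ := (sigmaOpenCover X).exists_eq (pullback.fst G s x)
    have hx : x ∈ Set.range (m i) := by
      rw [Scheme.Pullback.range_map]
      exact ⟨⟨y, hy⟩, ⟨pullback.snd G s x, rfl⟩⟩
    obtain ⟨x', rfl⟩ := hx
    have : IsOpenImmersion (m i) := inferInstance
    rw [← goodAt_comp_left_iff, ← Category.assoc, hm]
    exact hgood i x'
  have hfl : Flat (pullback.snd G s ≫ t) := Flat.of_stalkMap _ fun x => (hgoodG x).1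
  have hqf : LocallyQuasiFinite (pullback.snd G s ≫ t) := by
    rw [← Scheme.Hom.quasiFiniteLocus_eq_top_iff, eq_top_iff]
    exact fun x _ => (hgoodG x).2
  have hsep : ∀ {S : Scheme.{u}} (q : U ⟶ S), IsSeparated (G ≫ q) := by
    intro S q
    have : ∀ i, IsSeparated (g i ≫ q) := fun i => by
      have : IsSeparated ((g i ≫ q) ≫ terminal.from S) :=
        inferInstanceAs (IsSeparated ((g i ≫ q) ≫ terminal.from S))
      exact IsSeparated.of_comp (g i ≫ q) (terminal.from S)
    rw [show G ≫ q = Sigma.desc fun i => g i ≫ q from Sigma.hom_ext _ _ fun i => by simp [G]]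
    exact isSeparated_sigmaDesc _ _
  refine ⟨∐ X, G, hG, hsep, hfl, hlfp, hqf, ⟨fun z => ?_⟩⟩
  by_contra hz
  let C := (Set.range (pullback.snd G s ≫ t))ᶜ
  have hC : IsClosed C := (Scheme.Hom.isOpenMap (pullback.snd G s ≫ t)).isOpen_range.isClosed_compl
  obtain ⟨_, ⟨V, hV, rfl⟩, hzV, -⟩ :=
    U.isBasis_affineOpens.exists_subset_of_mem_open (Set.mem_univ z) isOpen_univ
  let q := hV.primeIdealOf ⟨z, hzV⟩
  obtain ⟨M, hM, hqM⟩ := Ideal.exists_le_maximal q.asIdeal q.isPrime.ne_top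
  let M' : ↥(Spec Γ(U, V)) := ⟨M, hM.isPrime⟩
  have hspec : q ⤳ M' := (PrimeSpectrum.le_iff_specializes q M').1 hqM
  have hMC : hV.fromSpec M' ∈ C :=
    (hspec.map hV.fromSpec.continuous).mem_closed hC (by
      change hV.fromSpec (hV.primeIdealOf ⟨z, hzV⟩) ∈ C
      rw [hV.fromSpec_primeIdealOf]
      exact hz)
  have huV : hV.fromSpec M' ∈ V := by
    rw [← SetLike.mem_coe, ← hV.range_fromSpec]
    exact ⟨M', rfl⟩
  have hmax : (hV.primeIdealOf ⟨_, huV⟩).asIdeal.IsMaximal := by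
    have : hV.primeIdealOf ⟨_, huV⟩ = M' :=
      hV.fromSpec.isOpenEmbedding.injective (hV.fromSpec_primeIdealOf ⟨_, huV⟩)
    rw [this]
    exact hM
  let i : ι := ⟨hV.fromSpec M', V, hV, huV, hmax⟩
  obtain ⟨x, hx⟩ := hrange i
  refine hMC ⟨m i x, ?_⟩
  rw [← Scheme.Hom.comp_apply, ← Category.assoc, hm]
  exact hx

end Groth.Agent.Slice
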