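import Groth.Agent.Lib.Depth.CM
import Groth.Agent.Lib.FlatH4.LocCrit
import Groth.Agent.Lib.FlatH4.FibreCritFT
import Mathlib.Algebra.MvPolynomial.Equiv
import Mathlib.RingTheory.KrullDimension.Regular
import Mathlib.RingTheory.KrullDimension.Zero
import Mathlib.RingTheory.KrullDimension.Field
import Mathlib.RingTheory.RingHom.Flat

/-!
# Regular sequences in Cohen–Macaulay local rings chosen inside a given ideal
-/

universe u

open IsLocalRing RingTheory.Sequence TensorProduct

namespace Groth.Agent.Slice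

variable {C : Type u} [CommRing C]

theorem idealDepth_map_quotient [IsLocalRing C] (J : Ideal C) [IsLocalRing (C ⧸ J)] :
    LocCoh.idealDepth (maximalIdeal (C ⧸ J)) (C ⧸ J) = LocCoh.idealDepth (maximalIdeal C) (C ⧸ J) := by
  have hmap : (maximalIdeal C).map (Ideal.Quotient.mk J) = maximalIdeal (C ⧸ J) := by
    refine IsLocalRing.eq_maximalIdeal (Ideal.map_eq_top_or_isMaximal_of_surjective _
      Ideal.Quotient.mk_surjective inferInstance |>.resolve_left fun h => ?_)
    have h1 := congrArg (Ideal.comap (Ideal.Quotient.mk J)) h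
    rw [Ideal.comap_map_of_surjective _ Ideal.Quotient.mk_surjective, ← RingHom.ker_eq_comap_bot,
      Ideal.mk_ker, Ideal.comap_top, sup_eq_left.2 (le_maximalIdeal
        (Ideal.Quotient.nontrivial_iff.1 inferInstance))] at h1
    exact (maximalIdeal.isMaximal C).ne_top h1
  have h1 : maximalIdeal (C ⧸ J) • (⊤ : Submodule (C ⧸ J) (C ⧸ J)) ≠ ⊤ := by
    rw [Ideal.smul_eq_mul, Ideal.mul_top]
    exact (maximalIdeal.isMaximal _).ne_top
  have h2 : maximalIdeal C • (⊤ : Submodule C (C ⧸ J)) ≠ ⊤ := fun h => h1 (by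
    refine eq_top_iff.2 fun z _ => ?_
    have hz : z ∈ maximalIdeal C • (⊤ : Submodule C (C ⧸ J)) := by rw [h]; trivial
    refine Submodule.smul_induction_on hz (fun r hr n _ => ?_) fun a b ha hb => add_mem ha hb
    rw [← algebraMap_smul (C ⧸ J) r n]
    exact Submodule.smul_mem_smul (hmap ▸ Ideal.mem_map_of_mem _ hr) trivial)
  rw [LocCoh.idealDepth, LocCoh.idealDepth, if_neg h1, if_neg h2]
  refine le_antisymm (iSup₂_le fun rs hrs => ?_) (iSup₂_le fun rs hrs => ?_)
  · obtain ⟨rs', rfl⟩ := List.map_surjective_iff.2 Ideal.Quotient.mk_surjective rs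
    refine le_iSup₂_of_le rs' ⟨(isWeaklyRegular_map_algebraMap_iff (C ⧸ J) _ rs').1 hrs.1, fun r hr => ?_⟩
      (by rw [List.length_map])
    by_contra hu
    rw [mem_maximalIdeal, mem_nonunits_iff, not_not] at hu
    exact (mem_maximalIdeal _).1 (hrs.2 _ (List.mem_map_of_mem hr)) (hu.map (Ideal.Quotient.mk J))
  · refine le_iSup₂_of_le (rs.map (algebraMap C (C ⧸ J)))
      ⟨(isWeaklyRegular_map_algebraMap_iff (C ⧸ J) _ rs).2 hrs.1, fun r hr => ?_⟩
      (by rw [List.length_map])
    obtain ⟨r₀, hr₀, rfl⟩ := List.mem_map.1 hr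
    exact hmap ▸ Ideal.mem_map_of_mem _ (hrs.2 _ hr₀)

/-- The quotient of a Cohen–Macaulay local ring by a regular element is one, of dimension one less. -/
theorem isCM_quotient_span_singleton [hC : LocCoh.IsCohenMacaulayLocalRing C] {f : C}
    (hf : f ∈ maximalIdeal C) (hreg : IsSMulRegular C f) :
    LocCoh.IsCohenMacaulayLocalRing (C ⧸ Ideal.span {f}) ∧
      ringKrullDim (C ⧸ Ideal.span {f}) + 1 = ringKrullDim C := by
  have : Nontrivial (C ⧸ Ideal.span {f}) := Ideal.Quotient.nontrivial_iff.2
    (ne_top_of_le_ne_top (maximalIdeal.isMaximal C).ne_top ((Ideal.span_singleton_le_iff_mem _).2 hf))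
  have : IsLocalRing (C ⧸ Ideal.span {f}) :=
    IsLocalRing.of_surjective' (Ideal.Quotient.mk _) Ideal.Quotient.mk_surjective
  let e : QuotSMulTop f C ≃ₗ[C] C ⧸ Ideal.span {f} :=
    Submodule.quotEquivOfEq _ _ (by
      rw [← Submodule.ideal_span_singleton_smul, Ideal.smul_eq_mul, Ideal.mul_top])
  have hcm := (DepthLib.isCohenMacaulayModule_quotSMulTop_iff (M := C) hf hreg).2 hC.supportDim_eq_depth
  refine ⟨{ supportDim_eq_depth := ?_ }, ?_⟩
  · rw [Module.supportDim_self_eq_ringKrullDim, ← Module.supportDim_quotient_eq_ringKrullDim]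
    unfold LocCoh.depth
    rw [idealDepth_map_quotient, ← DepthLib.idealDepth_congr e,
      ← Module.supportDim_eq_of_equiv e]
    exact hcm
  · rw [← Module.supportDim_quotient_eq_ringKrullDim, ← Module.supportDim_eq_of_equiv e,
      Module.supportDim_quotSMulTop_succ_eq_supportDim hreg hf, Module.supportDim_self_eq_ringKrullDim]

theorem flat_polynomial_step {R' : Type u} [CommRing R'] [IsNoetherianRing R'] [IsNoetherianRing C]
    [IsLocalRing C] (ψ : Polynomial R' →+* C) (hX : ψ Polynomial.X ∈ maximalIdeal C)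
    (hreg : IsSMulRegular C (ψ Polynomial.X))
    (hflat : ((Ideal.Quotient.mk (Ideal.span {ψ Polynomial.X})).comp (ψ.comp Polynomial.C)).Flat) :
    ψ.Flat := by
  let R := Polynomial R'
  algebraize [ψ]
  let I : Ideal R := Ideal.span {Polynomial.X}
  have hI : I.map (algebraMap R C) ≤ (⊥ : Ideal C).jacobson := by
    rw [IsLocalRing.jacobson_eq_maximalIdeal ⊥ bot_ne_top, Ideal.map_span, Ideal.span_le]
    rintro _ ⟨_, rfl, rfl⟩
    exact hX
  change Module.Flat R C
  refine FlatH4.flat_of_le_jacobson (S := C) I hI ?_ ?_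
  · let g : R →ₗ[R] I := LinearMap.toSpanSingleton R I ⟨Polynomial.X, Ideal.subset_span rfl⟩
    have hg : Function.Surjective g := by
      rintro ⟨z, hz⟩
      obtain ⟨a, rfl⟩ := Ideal.mem_span_singleton'.1 hz
      exact ⟨a, Subtype.ext rfl⟩
    intro u v huv
    obtain ⟨u, rfl⟩ := LinearMap.lTensor_surjective C hg u
    obtain ⟨v, rfl⟩ := LinearMap.lTensor_surjective C hg v
    rw [← LinearMap.comp_apply, ← LinearMap.comp_apply, ← LinearMap.lTensor_comp] at huv
    have key : ∀ w, TensorProduct.rid R C ((I.subtype ∘ₗ g).lTensor C w) =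
        ψ Polynomial.X * TensorProduct.rid R C w := by
      intro w
      induction w using TensorProduct.induction_on with
      | zero => simp
      | add a b ha hb => rw [map_add, map_add, ha, hb, map_add, mul_add]
      | tmul c r =>
        simp only [LinearMap.lTensor_tmul, TensorProduct.rid_tmul]
        change (r * Polynomial.X) • c = ψ Polynomial.X * r • c
        rw [mul_comm, mul_smul]
        exact Algebra.smul_def _ _
    have := congrArg (TensorProduct.rid R C) huv
    rw [key, key] at this
    rw [(TensorProduct.rid R C).injective (hreg this)]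
  · have hsurj : Function.Surjective (algebraMap R' (R ⧸ I)) := fun z => by
      obtain ⟨p, rfl⟩ := Ideal.Quotient.mk_surjective z
      refine ⟨p.coeff 0, ?_⟩
      rw [IsScalarTower.algebraMap_apply R' R (R ⧸ I)]
      refine (Ideal.Quotient.eq.2 (Ideal.mem_span_singleton.2 (Polynomial.X_dvd_iff.2 ?_)))
      change (Polynomial.C (p.coeff 0) - p).coeff 0 = 0
      rw [Polynomial.coeff_sub, Polynomial.coeff_C_zero, sub_self]
    have hflat' : Module.Flat R' ((R ⧸ I) ⊗[R] C) := by
      let J := Ideal.span {ψ Polynomial.X}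
      algebraize [(Ideal.Quotient.mk J).comp (ψ.comp Polynomial.C)]
      have hJ : I • (⊤ : Submodule R C) = J.restrictScalars R := by
        rw [Ideal.smul_top_eq_map, Ideal.map_span, Set.image_singleton]
        rfl
      let e : (R ⧸ I) ⊗[R] C ≃ₗ[R] C ⧸ J :=
        (TensorProduct.quotTensorEquivQuotSMul C I).trans (Submodule.quotEquivOfEq _ _ hJ |>.trans
          (Submodule.Quotient.restrictScalarsEquiv R J))
      have : Module.Flat R' (C ⧸ J) := hflat
      let e' : ((R ⧸ I) ⊗[R] C) ≃ₗ[R'] (C ⧸ J) :=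
        { e.toAddEquiv with
          map_smul' := fun r z => by
            change e (r • z) = r • e z
            rw [← algebraMap_smul R r z, map_smul]
            obtain ⟨w, hw⟩ := Ideal.Quotient.mk_surjective (e z)
            rw [← hw]
            rfl }
      exact Module.Flat.of_linearEquiv e'
    exact FlatH4.flat_of_surjective_scalars (R := R') hsurj

/-- In a Cohen–Macaulay local `k`-algebra, an ideal `p` of `A` whose image has the maximal ideal as
only prime contains a sequence over whose polynomial ring the algebra is flat and cutting out a point. -/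
theorem exists_flat_sequence {k : Type u} [Field k] {A : Type u} [CommRing A] (p : Ideal A) :
    ∀ (d : ℕ) (C : Type u) [CommRing C] [Algebra k C] [LocCoh.IsCohenMacaulayLocalRing C] (φ : A →+* C),
      ringKrullDim C ≤ (d : ℕ) → (∀ a ∈ p, φ a ∈ maximalIdeal C) →
      (∀ P : Ideal C, P.IsPrime → (∀ a ∈ p, φ a ∈ P) → P = maximalIdeal C) →
      ∃ (n : ℕ) (f : Fin n → A), (∀ i, f i ∈ p) ∧
        (MvPolynomial.aeval (R := k) fun i => φ (f i)).toRingHom.Flat ∧
        ∀ P : Ideal C, P.IsPrime → (∀ i, φ (f i) ∈ P) → P = maximalIdeal C := by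
  intro d
  induction d with
  | zero =>
    intro C _ _ _ φ hd hp hP
    refine ⟨0, Fin.elim0, fun i => i.elim0, ?_, fun P hP' _ => ?_⟩
    · let e := MvPolynomial.isEmptyAlgEquiv k (Fin 0)
      rw [show (MvPolynomial.aeval (R := k) fun i => φ (Fin.elim0 i : A)).toRingHom =
        (algebraMap k C).comp e.toRingHom from MvPolynomial.ringHom_ext (fun r => (MvPolynomial.aeval_C _ r).trans (congrArg (algebraMap k C) (e.commutes r).symm)) fun i => i.elim0]
      exact RingHom.Flat.comp (RingHom.Flat.of_bijective e.bijective)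
        (RingHom.flat_algebraMap_iff.2 (inferInstance : Module.Flat k C))
    · have : Ring.KrullDimLE 0 C := Ring.krullDimLE_iff.2 hd
      exact @Ring.KrullDimLE.eq_maximalIdeal_of_isPrime C _ _ _ P hP'
  | succ d ih =>
    intro C _ _ _ φ hd hp hP
    by_cases h0 : ∀ P : Ideal C, P.IsPrime → P = maximalIdeal C
    · have h00 : ringKrullDim C ≤ ((0 : ℕ) : WithBot ℕ∞) := by
        refine Ring.krullDimLE_iff.1 ?_
        exact Ring.krullDimLE_zero_iff.2 fun P hP' => h0 P hP' ▸ maximalIdeal.isMaximal C
      exact ih C φ (h00.trans (by exact_mod_cast Nat.zero_le d)) hp hP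
    obtain ⟨f, hfp, hreg⟩ : ∃ f ∈ p, IsSMulRegular C (φ f) := by
      by_contra hcon
      push Not at hcon
      have hfin := associatedPrimes.finite C C
      have hsub : (p : Set A) ⊆ ⋃ P ∈ associatedPrimes C C, ((P.comap φ : Ideal A) : Set A) := fun a ha => by
        have h1 : φ a ∈ ⋃ P ∈ associatedPrimes C C, (P : Set C) := by
          rw [biUnion_associatedPrimes_eq_compl_regular]
          exact hcon a ha
        simpa using h1
      obtain ⟨P, hPa, hle⟩ := (Ideal.subset_union_prime_finite hfin (f := Ideal.comap φ) ⊥ ⊥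
        fun P hP' _ _ => (IsAssociatedPrime.isPrime hP').comap φ).1 hsub
      have hPm := hP P (IsAssociatedPrime.isPrime hPa) hle
      refine h0 fun Q hQ => ?_
      have h1 := DepthLib.depth_le_of_mem_associatedPrimes hPa
      rw [hPm, ringKrullDim_eq_zero_of_isField
        ((Ideal.Quotient.maximal_ideal_iff_isField_quotient _).1 (maximalIdeal.isMaximal C))] at h1
      have h2 : ringKrullDim C ≤ ((0 : ℕ) : WithBot ℕ∞) := by
        rw [← Module.supportDim_self_eq_ringKrullDim, LocCoh.IsCohenMacaulayLocalRing.supportDim_eq_depth]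
        exact h1
      have : Ring.KrullDimLE 0 C := Ring.krullDimLE_iff.2 h2
      exact @Ring.KrullDimLE.eq_maximalIdeal_of_isPrime C _ _ _ Q hQ
    obtain ⟨hcm, hdim⟩ := isCM_quotient_span_singleton (hp f hfp) hreg
    have hdim' : ringKrullDim (C ⧸ Ideal.span {φ f}) ≤ ((d : ℕ) : WithBot ℕ∞) := by
      refine DepthLib.withBot_add_coe_cancel 1 ?_
      rw [Nat.cast_one, hdim]
      exact hd.trans (le_of_eq (by push_cast; rfl))
    have hmax : maximalIdeal (C ⧸ Ideal.span {φ f}) =
        (maximalIdeal C).map (Ideal.Quotient.mk (Ideal.span {φ f})) := by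
      refine (IsLocalRing.eq_maximalIdeal (Ideal.map_eq_top_or_isMaximal_of_surjective _
        Ideal.Quotient.mk_surjective inferInstance |>.resolve_left fun h => ?_)).symm
      have h1 := congrArg (Ideal.comap (Ideal.Quotient.mk (Ideal.span {φ f}))) h
      rw [Ideal.comap_map_of_surjective _ Ideal.Quotient.mk_surjective, ← RingHom.ker_eq_comap_bot,
        Ideal.mk_ker, Ideal.comap_top, sup_eq_left.2 ((Ideal.span_singleton_le_iff_mem _).2 (hp f hfp))] at h1
      exact (maximalIdeal.isMaximal C).ne_top h1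
    have hcomap : ∀ P : Ideal (C ⧸ Ideal.span {φ f}),
        P.comap (Ideal.Quotient.mk _) = maximalIdeal C → P = maximalIdeal _ := fun P h => by
      rw [← Ideal.map_comap_of_surjective _ Ideal.Quotient.mk_surjective P, h, hmax]
    obtain ⟨n, g, hg, hgflat, hgP⟩ := ih (C ⧸ Ideal.span {φ f}) ((Ideal.Quotient.mk _).comp φ) hdim'
      (fun a ha => hmax ▸ Ideal.mem_map_of_mem _ (hp a ha))
      (fun P hP' h => hcomap P (hP _ (hP'.comap _) h))
    refine ⟨n + 1, (Fin.cons f g : Fin (n + 1) → A), Fin.cases hfp hg, ?_, fun P hP' h => ?_⟩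
    · let e := MvPolynomial.finSuccEquiv k n
      let ψ : Polynomial (MvPolynomial (Fin n) k) →+* C :=
        Polynomial.eval₂RingHom (MvPolynomial.aeval (R := k) fun i => φ (g i)).toRingHom (φ f)
      have hψ : (MvPolynomial.aeval (R := k) fun i => φ ((Fin.cons f g : Fin (n + 1) → A) i)).toRingHom =
          ψ.comp e.toRingHom := by
        refine MvPolynomial.ringHom_ext (fun r => ?_) fun i => ?_
        · simp [ψ, e, MvPolynomial.finSuccEquiv_apply]
        · refine Fin.cases ?_ (fun j => ?_) i
          · simp [ψ, e, MvPolynomial.finSuccEquiv_X_zero]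
          · simp [ψ, e, MvPolynomial.finSuccEquiv_X_succ]
      rw [hψ]
      refine RingHom.Flat.comp (RingHom.Flat.of_bijective e.bijective) (flat_polynomial_step ψ ?_ ?_ ?_)
      · simpa [ψ] using hp f hfp
      · simpa [ψ] using hreg
      · have hX : ψ Polynomial.X = φ f := by simp [ψ]
        rw [hX]
        convert hgflat using 1
        refine MvPolynomial.ringHom_ext (fun r => ?_) fun i => ?_
        · simp [ψ]
        · simp [ψ]
    · have hfP : φ f ∈ P := h 0
      have hle : Ideal.span {φ f} ≤ P := (Ideal.span_singleton_le_iff_mem _).2 hfP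
      have hPP : (P.map (Ideal.Quotient.mk (Ideal.span {φ f}))).comap (Ideal.Quotient.mk _) = P := by
        rw [Ideal.comap_map_of_surjective _ Ideal.Quotient.mk_surjective, ← RingHom.ker_eq_comap_bot,
          Ideal.mk_ker, sup_eq_left.2 hle]
      rw [← hPP, hgP _ (Ideal.map_isPrime_of_surjective Ideal.Quotient.mk_surjective (by rwa [Ideal.mk_ker]))
        (fun i => Ideal.mem_map_of_mem _ (by simpa using h i.succ)), hmax,
        Ideal.comap_map_of_surjective _ Ideal.Quotient.mk_surjective, ← RingHom.ker_eq_comap_bot,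
        Ideal.mk_ker, sup_eq_left.2 ((Ideal.span_singleton_le_iff_mem _).2 (hp f hfp))]

end Groth.Agent.Slice
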