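import Groth.Agent.Lib.Depth.CM
import Groth.Agent.Lib.FlatH4.GenFreeMain
import Mathlib.RingTheory.NoetherNormalization
import Mathlib.RingTheory.RegularLocalRing.Polynomial
import Mathlib.RingTheory.Jacobson.Ring
import Mathlib.RingTheory.Ideal.GoingUp
import Mathlib.RingTheory.Flat.Localization

/-!
# Cohen–Macaulay closed points of algebras of finite type over a field
-/

universe u

open IsLocalRing TensorProduct

namespace Groth.Agent.Slice

variable {P C : Type u} [CommRing P] [CommRing C] [Algebra P C]

theorem height_le_height_comap [Algebra.IsIntegral P C] (Q : Ideal C) [Q.IsPrime] :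
    Q.height ≤ (Q.comap (algebraMap P C)).height := by
  have h1 := PrimeSpectrum.height_eq_orderHeight ⟨Q, ‹_›⟩
  have h2 := PrimeSpectrum.height_eq_orderHeight (PrimeSpectrum.comap (algebraMap P C) ⟨Q, ‹_›⟩)
  rw [PrimeSpectrum.comap_asIdeal] at h2
  rw [h1, h2]
  exact Order.height_le_height_apply_of_strictMono (PrimeSpectrum.comap (algebraMap P C))
    (fun a b hab => (PrimeSpectrum.asIdeal_lt_asIdeal _ _).1
      (Ideal.IsIntegral.comap_lt_comap ((PrimeSpectrum.asIdeal_lt_asIdeal _ _).2 hab))) ⟨Q, ‹_›⟩

/-- Over a Cohen–Macaulay local ring, a flat finite extension localised at a prime over the closed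
point is Cohen–Macaulay. -/
theorem isCM_localization_of_flat [IsNoetherianRing C] [Algebra.IsIntegral P C] (n : Ideal P) [n.IsPrime]
    [LocCoh.IsCohenMacaulayLocalRing (Localization.AtPrime n)] (Q : Ideal C) [Q.IsPrime] [Q.LiesOver n]
    (hflat : Module.Flat P (Localization.AtPrime Q)) :
    LocCoh.IsCohenMacaulayLocalRing (Localization.AtPrime Q) := by
  let A := Localization.AtPrime n
  let B := Localization.AtPrime Q
  let _ := Localization.AtPrime.algebraOfLiesOver n Q
  have : Module.Flat A B := (Module.flat_iff_of_isLocalization A n.primeCompl B).2 hflat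
  refine { supportDim_eq_depth := le_antisymm ?_ DepthLib.depth_le_supportDim }
  have hA := (‹LocCoh.IsCohenMacaulayLocalRing (Localization.AtPrime n)›).supportDim_eq_depth
  rw [Module.supportDim_self_eq_ringKrullDim] at hA ⊢
  have h1 : LocCoh.depth A A ≤ LocCoh.depth B B := by
    unfold LocCoh.depth
    refine le_trans (DepthLib.idealDepth_le_baseChange (B := B)) ?_
    rw [← DepthLib.idealDepth_congr (Algebra.TensorProduct.rid A B B).toLinearEquiv.symm]
    exact DepthLib.idealDepth_mono (((IsLocalRing.local_hom_TFAE (algebraMap A B)).out 0 2).1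
      (inferInstance : IsLocalHom (algebraMap A B)))
  refine le_trans ?_ (WithBot.coe_le_coe.2 h1)
  rw [← hA, IsLocalization.AtPrime.ringKrullDim_eq_height n A,
    IsLocalization.AtPrime.ringKrullDim_eq_height Q B, WithBot.coe_le_coe, Q.over_def n]
  exact height_le_height_comap Q

/-- A nonzero algebra of finite type over a field has a Cohen–Macaulay closed point. -/
theorem exists_isCM_closed_point (k : Type u) [Field k] (C : Type u) [CommRing C] [Algebra k C]
    [Algebra.FiniteType k C] [Nontrivial C] :
    ∃ Q : Ideal C, ∃ _ : Q.IsMaximal, LocCoh.IsCohenMacaulayLocalRing (Localization.AtPrime Q) := by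
  have : IsNoetherianRing C := Algebra.FiniteType.isNoetherianRing k C
  obtain ⟨d, g, hg, hfin⟩ := exists_finite_inj_algHom_of_fg k C
  let P := MvPolynomial (Fin d) k
  algebraize [g.toRingHom]
  have hfinite : Module.Finite P C := hfin
  obtain ⟨f, hf, hfree⟩ := FlatH4.exists_free_and_finitePresentation (R := P) (S := C)
  obtain ⟨n, hn, hfn⟩ : ∃ n : Ideal P, n.IsMaximal ∧ f ∉ n := by
    by_contra hcon
    push Not at hcon
    have : f ∈ (⊥ : Ideal P).jacobson := Ideal.mem_sInf.2 fun {J} hJ => hcon J hJ.2
    rw [IsJacobsonRing.out inferInstance (Ideal.IsPrime.isRadical (Ideal.isPrime_bot (α := P)))] at this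
    exact hf this
  obtain ⟨Q, hQ, hQn⟩ := Ideal.exists_ideal_over_maximal_of_isIntegral (S := C) n
    fun z hz => by
      have : z = 0 := hg (by rw [map_zero]; exact hz)
      exact this ▸ zero_mem _
  refine ⟨Q, hQ, ?_⟩
  have : Q.LiesOver n := ⟨hQn.symm⟩
  have : IsRegularLocalRing (Localization.AtPrime n) :=
    IsRegularRing.isRegularLocalRing_localization n
  have := DepthLib.isCohenMacaulayLocalRing_of_isRegularLocalRing (R := Localization.AtPrime n)
  refine isCM_localization_of_flat n Q ?_
  let R' := Localization.Away f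
  obtain ⟨hfr, -⟩ := hfree R' (IsLocalization.Away.algebraMap_isUnit f)
  let C' := Localization.Away (algebraMap P C f)
  have hloc : IsLocalizedModule (Submonoid.powers f) (IsScalarTower.toAlgHom P C C').toLinearMap :=
    isLocalizedModule_iff_isLocalization.2 (by
      rw [Algebra.algebraMapSubmonoid_powers]
      infer_instance)
  have h1 : Module.Flat P (R' ⊗[P] C) := Module.Flat.trans P R' _
  have h2 : Module.Flat P C' := Module.Flat.of_linearEquiv
    (((LocalizedModule.equivTensorProduct (Submonoid.powers f) C).restrictScalars P).symm.trans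
      (IsLocalizedModule.iso (Submonoid.powers f) (IsScalarTower.toAlgHom P C C').toLinearMap)).symm
  have hfQ : algebraMap P C f ∉ Q := fun h => hfn (hQn ▸ h)
  let ι : C' →+* Localization.AtPrime Q := IsLocalization.Away.lift (algebraMap P C f)
    (IsLocalization.map_units (Localization.AtPrime Q) (⟨_, hfQ⟩ : Q.primeCompl))
  let _ := ι.toAlgebra
  have : IsScalarTower C C' (Localization.AtPrime Q) :=
    IsScalarTower.of_algebraMap_eq fun c => (IsLocalization.Away.lift_eq _ _ c).symm
  have : IsScalarTower P C' (Localization.AtPrime Q) := IsScalarTower.to₁₃₄ P C C' _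
  have : Module.Flat C' (Localization.AtPrime Q) :=
    (Module.flat_iff_of_isLocalization C' (Submonoid.powers (algebraMap P C f)) _).2
      (IsLocalization.flat _ Q.primeCompl)
  exact Module.Flat.trans P C' _

end Groth.Agent.Slice
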