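import Groth.Agent.Lib.FlatH4.GenFreeMain
import Mathlib.RingTheory.Flat.FaithfullyFlat.Basic
import Mathlib.FieldTheory.IntermediateField.Algebraic
import Mathlib.FieldTheory.IntermediateField.Adjoin.Basic
import Mathlib.RingTheory.Localization.FractionRing
import Mathlib.RingTheory.Algebraic.Integral
import Mathlib.Algebra.Polynomial.FieldDivision

/-!
# Subfields of finitely generated algebras are algebraic
-/

universe u

open TensorProduct Polynomial

namespace Groth.Agent.Slice

/-- A polynomial over `ℤ` with an irreducible factor over `k` prime to a given one. -/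
theorem exists_intPoly_factor {k : Type u} [Field k] {g : k[X]} (hg : g ≠ 0) :
    ∃ (p : ℤ[X]) (π : k[X]), Prime π ∧ π ∣ p.map (Int.castRingHom k) ∧
      p.map (Int.castRingHom k) ≠ 0 ∧ ¬ π ∣ g := by
  classical
  by_contra hcon
  push Not at hcon
  let G : Finset k[X] := (UniqueFactorizationMonoid.normalizedFactors g).toFinset.filter
    fun π => ∃ q : ℤ[X], q.Monic ∧ π ∣ q.map (Int.castRingHom k)
  choose! q hq using fun π (hπ : π ∈ G) => (Finset.mem_filter.1 hπ).2
  let Q : ℤ[X] := X * (∏ π ∈ G, q π) + 1
  have hm : (∏ π ∈ G, q π).Monic := monic_prod_of_monic _ _ fun π hπ => (hq π hπ).1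
  have hdeg : (0 : WithBot ℕ) < (X * ∏ π ∈ G, q π).degree := by
    rw [Monic.degree_mul hm, degree_X]
    exact lt_of_lt_of_le (by norm_num) (le_add_of_nonneg_right (zero_le_degree_iff.2 hm.ne_zero))
  have hQm : Q.Monic := (monic_X.mul hm).add_of_left (by rwa [degree_one])
  have hQdeg : 0 < (Q.map (Int.castRingHom k)).degree := by
    rw [hQm.degree_map, degree_add_eq_left_of_degree_lt (by rwa [degree_one])]
    exact hdeg
  obtain ⟨π, hπ, hπQ⟩ := WfDvdMonoid.exists_irreducible_factor
    (fun hu => hQdeg.ne' (degree_eq_zero_of_isUnit hu)) (hQm.map _).ne_zero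
  have hπg := hcon Q π hπ.prime hπQ (hQm.map _).ne_zero
  obtain ⟨π', hπ', hass⟩ := UniqueFactorizationMonoid.exists_mem_normalizedFactors_of_dvd hg hπ hπg
  have hmem : π' ∈ G := Finset.mem_filter.2
    ⟨Multiset.mem_toFinset.2 hπ', Q, hQm, hass.dvd'.trans hπQ⟩
  have h1 : π ∣ (X * ∏ π ∈ G, q π).map (Int.castRingHom k) := by
    rw [Polynomial.map_mul, Polynomial.map_prod]
    exact dvd_mul_of_dvd_right
      (hass.dvd.trans ((hq π' hmem).2.trans (Finset.dvd_prod_of_mem (fun π => (q π).map (Int.castRingHom k)) hmem))) _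
  have h2 : π ∣ Q.map (Int.castRingHom k) - (X * ∏ π ∈ G, q π).map (Int.castRingHom k) :=
    dvd_sub hπQ h1
  rw [← Polynomial.map_sub, show Q - X * ∏ π ∈ G, q π = 1 by simp [Q], Polynomial.map_one] at h2
  exact hπ.not_isUnit (isUnit_of_dvd_one h2)

/-- The image of a field in a domain of finite type over `k` is algebraic over `k`. -/
theorem isAlgebraic_of_field_hom {k D L : Type u} [Field k] [Field L] [CommRing D] [IsDomain D]
    [Algebra k D] [Algebra.FiniteType k D] (ι : L →+* D) (x : L) : IsAlgebraic k (ι x) := by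
  by_contra htr
  have hinj : Function.Injective (aeval (R := k) (ι x)) := transcendental_iff_injective.1 htr
  let _ := (aeval (R := k) (ι x)).toRingHom.toAlgebra
  have : IsScalarTower k k[X] D := IsScalarTower.of_algebraMap_eq fun r => ((aeval (ι x)).commutes r).symm
  have : Algebra.FiniteType k[X] D := Algebra.FiniteType.of_restrictScalars_finiteType k k[X] D
  obtain ⟨g, hg, hfree⟩ := FlatH4.exists_free_and_finitePresentation (R := k[X]) (S := D)
  obtain ⟨p, π, hπ, hπp, hp0, hπg⟩ := exists_intPoly_factor hg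
  let R' := Localization.Away g
  obtain ⟨hfr, -⟩ := hfree R' (IsLocalization.Away.algebraMap_isUnit g)
  let K := FractionRing D
  have : Nontrivial (R' ⊗[k[X]] D) := by
    let l : R' →ₐ[k[X]] K := IsLocalization.liftAlgHom (M := Submonoid.powers g) (f := Algebra.ofId _ K)
      fun y => isUnit_iff_ne_zero.2 fun h => by
        obtain ⟨_, n, rfl⟩ := y
        refine pow_ne_zero n hg (hinj ?_)
        rw [map_zero]
        exact IsFractionRing.injective D K ((map_zero (algebraMap D K)).symm ▸ h)
    exact (Algebra.TensorProduct.productMap l (IsScalarTower.toAlgHom k[X] D K)).toRingHom.domain_nontrivial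
  have hunit : IsUnit (algebraMap k[X] D (p.map (Int.castRingHom k))) := by
    have h1 : algebraMap k[X] D (p.map (Int.castRingHom k)) = ι (p.eval₂ (Int.castRingHom L) x) := by
      change aeval (ι x) _ = _
      rw [aeval_def, eval₂_map, Polynomial.hom_eval₂]
      congr 1
      exact RingHom.ext_int _ _
    rw [h1]
    refine (IsUnit.mk0 _ fun h => ?_).map ι
    rw [h, map_zero] at h1
    exact hp0 (hinj (h1.trans (map_zero _).symm))
  have hπR : ¬ IsUnit (algebraMap k[X] R' π) := by
    intro hu
    obtain ⟨b, hb⟩ := hu.exists_right_inv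
    obtain ⟨⟨a, _, n, rfl⟩, ha⟩ := IsLocalization.surj (Submonoid.powers g) b
    have h2 : algebraMap k[X] R' (g ^ n) = algebraMap k[X] R' (π * a) := by
      rw [map_mul, ← ha, ← mul_assoc, hb, one_mul]
    obtain ⟨⟨_, m, rfl⟩, hc⟩ := (IsLocalization.eq_iff_exists (Submonoid.powers g) R').1 h2
    have h3 : π ∣ g ^ m * g ^ n := ⟨g ^ m * a, hc.trans (mul_left_comm _ _ _)⟩
    rw [← pow_add] at h3
    exact hπg (hπ.dvd_of_dvd_pow h3)
  obtain ⟨M, hM, hle⟩ := Ideal.exists_le_maximal (Ideal.span {algebraMap k[X] R' π})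
    fun h => hπR (Ideal.span_singleton_eq_top.1 h)
  refine (Module.FaithfullyFlat.submodule_ne_top (R := R') (M := R' ⊗[k[X]] D) hM) ?_
  obtain ⟨c, hc⟩ := hπp
  obtain ⟨w, hw⟩ := hunit.exists_left_inv
  refine eq_top_iff.2 fun z _ => ?_
  have h4 : z = algebraMap k[X] R' π • (((1 : R') ⊗ₜ[k[X]] (w * algebraMap k[X] D c)) * z) := by
    rw [algebraMap_smul, ← smul_mul_assoc, ← tmul_smul, Algebra.smul_def, mul_left_comm,
      ← map_mul, ← hc, hw]
    exact (one_mul z).symm
  rw [h4]
  exact Submodule.smul_mem_smul (hle (Ideal.subset_span rfl)) trivial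

/-- An algebra of finite type over a field, a domain, all whose elements lie in the field generated by
`k` and the image of a field `L`, is a field. -/
theorem isField_of_generated {k D L : Type u} [Field k] [Field L] [CommRing D] [IsDomain D]
    [Algebra k D] [Algebra.FiniteType k D] (ι : L →+* D)
    (hext : ∀ {Z : Type u} [CommRing Z] (φ ψ : FractionRing D →+* Z),
      φ.comp (algebraMap k (FractionRing D)) = ψ.comp (algebraMap k (FractionRing D)) →
      φ.comp ((algebraMap D (FractionRing D)).comp ι) = ψ.comp ((algebraMap D (FractionRing D)).comp ι) →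
      φ.comp (algebraMap D (FractionRing D)) = ψ.comp (algebraMap D (FractionRing D))) :
    IsField D := by
  let K := FractionRing D
  let k' := IntermediateField.adjoin k (Set.range ((algebraMap D K).comp ι))
  have : Algebra.IsAlgebraic k k' := by
    refine IntermediateField.isAlgebraic_adjoin ?_
    rintro _ ⟨x, rfl⟩
    exact ((isAlgebraic_of_field_hom (k := k) ι x).algebraMap).isIntegral
  have hDk : ∀ z : D, algebraMap D K z ∈ k' := by
    intro z
    by_contra hz
    let φ : K →+* K ⊗[k'] K := Algebra.TensorProduct.includeLeftRingHom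
    let ψ : K →+* K ⊗[k'] K := (Algebra.TensorProduct.includeRight : K →ₐ[k'] K ⊗[k'] K).toRingHom
    have hk : ∀ c : k', φ c = ψ c := fun c => (Algebra.TensorProduct.tmul_one_eq_one_tmul c)
    have h := RingHom.congr_fun (hext φ ψ
      (RingHom.ext fun r => hk ⟨_, k'.algebraMap_mem r⟩)
      (RingHom.ext fun r => hk ⟨_, IntermediateField.subset_adjoin k _ ⟨r, rfl⟩⟩)) z
    have hli : LinearIndependent k' ![(1 : K), algebraMap D K z] := by
      refine LinearIndependent.pair_iff.2 fun s t hst => ?_
      by_cases ht : t = 0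
      · refine ⟨?_, ht⟩
        rw [ht, zero_smul, add_zero, ← Algebra.algebraMap_eq_smul_one] at hst
        exact (map_eq_zero _).1 hst
      · refine absurd ?_ hz
        have h2 : algebraMap D K z = algebraMap k' K (-(s * t⁻¹)) := by
          rw [Algebra.smul_def, Algebra.smul_def, mul_one] at hst
          have htK : algebraMap k' K t ≠ 0 := (_root_.map_ne_zero _).2 ht
          refine mul_left_cancel₀ htK ?_
          rw [map_neg, map_mul, map_inv₀, mul_neg, mul_left_comm, mul_inv_cancel₀ htK, mul_one]
          exact eq_neg_of_add_eq_zero_right hst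
        rw [h2]
        exact (-(s * t⁻¹) : k').2
    obtain ⟨f, hf⟩ : ∃ f : K →ₗ[k'] k', f 1 = 0 ∧ f (algebraMap D K z) = 1 := by
      obtain ⟨f, hf⟩ := LinearMap.exists_extend (p := Submodule.span k' (Set.range ![(1 : K), algebraMap D K z]))
        ((Finsupp.linearCombination k' ![(0 : k'), 1]).comp hli.repr)
      refine ⟨f, ?_, ?_⟩
      · have := LinearMap.congr_fun hf ⟨1, Submodule.subset_span ⟨0, rfl⟩⟩
        rw [LinearMap.comp_apply, LinearMap.comp_apply, hli.repr_eq_single 0 ⟨1, _⟩ rfl] at this
        simpa using this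
      · have := LinearMap.congr_fun hf ⟨algebraMap D K z, Submodule.subset_span ⟨1, rfl⟩⟩
        rw [LinearMap.comp_apply, LinearMap.comp_apply, hli.repr_eq_single 1 ⟨_, _⟩ rfl] at this
        simpa using this
    have := congrArg ((TensorProduct.rid k' K).toLinearMap ∘ₗ f.lTensor K) h
    simp [φ, ψ, hf.1] at this
    rw [show f (algebraMap D (FractionRing D) z) = 1 from hf.2, one_smul] at this
    exact zero_ne_one this
  have hint : Algebra.IsIntegral k D := ⟨fun z => by
    refine (isIntegral_algebraMap_iff (IsFractionRing.injective D K)).1 ?_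
    exact IsAlgebraic.isIntegral ((Algebra.IsAlgebraic.isAlgebraic (⟨_, hDk z⟩ : k')).algebraMap (A := K))⟩
  exact (Algebra.IsIntegral.isField_iff_isField (algebraMap k D).injective).1 (Field.toIsField k)

end Groth.Agent.Slice
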