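import Groth.Agent.Lib.Slice.CMFlat
import Groth.Agent.Lib.Slice.FieldImage
import Groth.Agent.Lib.FlatH4.FibreCritApps
import Mathlib.RingTheory.Ideal.MinimalPrime.Noetherian
import Mathlib.RingTheory.Localization.FractionRing

/-!
# Slicing at a Cohen–Macaulay point of a fibre

`A → B` is flat and finitely presented, `σ : A' → B` is a second map, the pair is an epimorphism and
`p = σ⁻¹ Q` is locally closed.  A sequence in `p` cuts `B` down to an algebra flat over `A` at `Q` with
`Q` isolated in its fibre.
-/

universe u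

open TensorProduct IsLocalRing

namespace Groth.Agent.Slice

variable {A A' B : Type u} [CommRing A] [CommRing A'] [CommRing B] [Algebra A B]

theorem flat_congr_prime {R S M : Type u} [CommRing R] [CommRing S] [Algebra R S] [AddCommGroup M]
    [Module R M] [Module S M] [IsScalarTower R S M] {Q₁ Q₂ : Ideal S} [Q₁.IsPrime] [Q₂.IsPrime]
    (e : Q₁ = Q₂) (h : Module.Flat R (LocalizedModule Q₁.primeCompl M)) :
    Module.Flat R (LocalizedModule Q₂.primeCompl M) := by
  subst e
  exact h

/-- In the fibre over `m`, the points above `p` below `Q` reduce to `Q`. -/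
theorem eq_of_le_of_comap [Algebra.FiniteType A B] (σ : A' →+* B)
    (hext : ∀ {L : Type u} [CommRing L] (φ ψ : B →+* L),
      φ.comp (algebraMap A B) = ψ.comp (algebraMap A B) → φ.comp σ = ψ.comp σ → φ = ψ)
    (m : Ideal A) [m.IsMaximal] (Q : Ideal B) [Q.IsMaximal] {g : A'} (hg : g ∉ Q.comap σ)
    (hgp : ∀ P : Ideal A', P.IsPrime → Q.comap σ ≤ P → g ∉ P → P = Q.comap σ)
    (P : Ideal B) [P.IsPrime] (hm : m.map (algebraMap A B) ≤ P) (hp : ∀ a ∈ Q.comap σ, σ a ∈ P)
    (hPQ : P ≤ Q) : P = Q := by
  let k := A ⧸ m
  let _ : Field k := Ideal.Quotient.field m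
  let p := Q.comap σ
  let D₀ := B ⧸ P
  let y : D₀ := Ideal.Quotient.mk P (σ g)
  have hy : y ≠ 0 := fun h => hg (hPQ (Ideal.Quotient.eq_zero_iff_mem.1 h))
  let D := Localization.Away y
  have : IsDomain D := IsLocalization.isDomain_localization (powers_le_nonZeroDivisors_of_noZeroDivisors hy)
  let β : B →+* D := (algebraMap D₀ D).comp (Ideal.Quotient.mk P)
  let ι₀ : k →+* D := Ideal.Quotient.lift m (β.comp (algebraMap A B)) fun a ha => by
    change algebraMap D₀ D (Ideal.Quotient.mk P (algebraMap A B a)) = 0
    rw [Ideal.Quotient.eq_zero_iff_mem.2 (hm (Ideal.mem_map_of_mem _ ha)), map_zero]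
  let _ : Algebra k D := ι₀.toAlgebra
  have : IsScalarTower A k D := IsScalarTower.of_algebraMap_eq (R := A) (S := k) (A := D) fun a => rfl
  have hft0 : (β.comp (algebraMap A B)).FiniteType := by
    refine RingHom.FiniteType.comp (RingHom.FiniteType.comp ?_ ?_)
      (RingHom.finiteType_algebraMap.2 inferInstance)
    · exact RingHom.finiteType_algebraMap.2
        (IsLocalization.finiteType_of_monoid_fg (Submonoid.powers y) D)
    · exact RingHom.FiniteType.of_surjective _ Ideal.Quotient.mk_surjective
  have : Algebra.FiniteType A D := RingHom.finiteType_algebraMap.1 (by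
    convert hft0; rfl)
  have : Algebra.FiniteType k D := Algebra.FiniteType.of_restrictScalars_finiteType A k D
  -- the residue field of `p` maps to `D`
  let L₀ := A' ⧸ p
  let z : L₀ := Ideal.Quotient.mk p g
  let L := Localization.Away z
  have : IsDomain L₀ := (Ideal.Quotient.isDomain_iff_prime p).2 (‹Q.IsMaximal›.isPrime.comap σ)
  have hz : z ≠ 0 := fun h => hg (Ideal.Quotient.eq_zero_iff_mem.1 h)
  have : IsDomain L := IsLocalization.isDomain_localization (powers_le_nonZeroDivisors_of_noZeroDivisors hz)
  have hL : IsField L := by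
    by_contra hf
    obtain ⟨M, hM0, hM⟩ := Ring.exists_maximal_of_not_isField hf
    have hM' : M.IsPrime := hM.isPrime
    refine hM0 ?_
    rw [← IsLocalization.map_under (Submonoid.powers z) (S := L) M]
    have h2 := hgp ((M.comap (algebraMap L₀ L)).comap (Ideal.Quotient.mk p))
      ((hM'.comap _).comap _)
      (fun a ha => by
        rw [Ideal.mem_comap, Ideal.Quotient.eq_zero_iff_mem.2 ha]; exact zero_mem _)
      (fun h => hM.ne_top (Ideal.eq_top_of_isUnit_mem _ h (IsLocalization.Away.algebraMap_isUnit z)))
    have h3 : M.under L₀ = ⊥ := by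
      refine eq_bot_iff.2 fun c hc => ?_
      obtain ⟨a, rfl⟩ := Ideal.Quotient.mk_surjective c
      have : a ∈ (M.comap (algebraMap L₀ L)).comap (Ideal.Quotient.mk p) := hc
      rw [h2] at this
      exact (Ideal.Quotient.eq_zero_iff_mem.2 this)
    rw [h3, Ideal.map_bot]
  let ι₁ : L₀ →+* D := Ideal.Quotient.lift p (β.comp σ) fun a ha => by
      change algebraMap D₀ D (Ideal.Quotient.mk P (σ a)) = 0
      rw [Ideal.Quotient.eq_zero_iff_mem.2 (hp a ha), map_zero]
  have hu : IsUnit (ι₁ z) := IsLocalization.Away.algebraMap_isUnit y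
  obtain ⟨ι, hι⟩ : ∃ ι : L →+* D, ∀ a, ι (algebraMap L₀ L (Ideal.Quotient.mk p a)) = β (σ a) :=
    ⟨IsLocalization.Away.lift z hu, fun a => (IsLocalization.Away.lift_eq z hu _).trans (Ideal.Quotient.lift_mk _ _ _)⟩
  have hfield : IsField D := by
    let _ : Field L := hL.toField
    refine isField_of_generated (k := k) ι fun {Z} _ φ ψ h1 h2 => ?_
    refine IsLocalization.ringHom_ext (Submonoid.powers y) (Ideal.Quotient.ringHom_ext ?_)
    refine hext _ _ (RingHom.ext fun a => ?_) (RingHom.ext fun a => ?_)
    · have := RingHom.congr_fun h1 (Ideal.Quotient.mk m a)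
      rwa [RingHom.comp_apply, RingHom.comp_apply, IsScalarTower.algebraMap_apply k D (FractionRing D)] at this
    · have := RingHom.congr_fun h2 ((algebraMap L₀ L) (Ideal.Quotient.mk p a))
      simp only [RingHom.comp_apply] at this ⊢
      rw [hι] at this
      exact this
  refine le_antisymm hPQ fun b hb => ?_
  by_contra hbP
  have hb0 : β b ≠ 0 := fun h => hbP (Ideal.Quotient.eq_zero_iff_mem.1
    ((map_eq_zero_iff _ (IsLocalization.injective D (powers_le_nonZeroDivisors_of_noZeroDivisors hy))).1 h))
  obtain ⟨w, hw⟩ := hfield.mul_inv_cancel hb0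
  obtain ⟨⟨c, _, n, rfl⟩, hc⟩ := IsLocalization.surj (Submonoid.powers y) w
  obtain ⟨c, rfl⟩ := Ideal.Quotient.mk_surjective c
  have h4 : Ideal.Quotient.mk P (b * c) = Ideal.Quotient.mk P (σ g ^ n) := by
    refine IsLocalization.injective D (powers_le_nonZeroDivisors_of_noZeroDivisors hy) ?_
    rw [map_mul, map_mul, ← hc, ← mul_assoc]
    change β b * w * _ = _
    rw [hw, one_mul, map_pow, map_pow, map_pow]
  have h5 : b * c - σ g ^ n ∈ Q := hPQ (Ideal.Quotient.eq.1 h4)
  exact hg (‹Q.IsMaximal›.isPrime.mem_of_pow_mem n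
    (by simpa using Q.sub_mem (Q.mul_mem_right c hb) h5))

variable [Algebra.FinitePresentation A B] [Module.Flat A B]

omit [Algebra A B] [Algebra.FinitePresentation A B] [Module.Flat A B] in
/-- A localization of the fibre flat over a quotient of the base gives `FibFlat`. -/
theorem fibFlat_of_flat_localization {S Sk C : Type u} [CommRing S] [CommRing Sk] [CommRing C]
    [Algebra S B] [Algebra S Sk] (hSk : Function.Surjective (algebraMap S Sk)) (π : B →+* C)
    (hπ : Function.Surjective π) {J : Ideal S} (hJ : RingHom.ker (algebraMap S Sk) ≤ J)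
    (hker : RingHom.ker π ≤ J.map (algebraMap S B)) (Q' : Ideal C) [Q'.IsPrime]
    [Algebra Sk (Localization.AtPrime Q')]
    (hcomp : ∀ s, algebraMap Sk (Localization.AtPrime Q') (algebraMap S Sk s) =
      algebraMap C (Localization.AtPrime Q') (π (algebraMap S B s)))
    [Module.Flat Sk (Localization.AtPrime Q')] : FlatH4.FibFlat S B J (Q'.comap π) := by
  intro N N' _ _ _ _ hN hN' g hg x hx
  let C' := Localization.AtPrime Q'
  let _ : Algebra S C := (π.comp (algebraMap S B)).toAlgebra
  have : IsScalarTower S C C' := IsScalarTower.of_algebraMap_eq (R := S) (S := C) (A := C') fun _ => rfl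
  have : IsScalarTower S Sk C' :=
    IsScalarTower.of_algebraMap_eq (R := S) (S := Sk) (A := C') fun s => (hcomp s).symm
  let π' : B →ₐ[S] C := { π with commutes' := fun _ => rfl }
  have hinj : Function.Injective (LinearMap.rTensor N π'.toLinearMap) := by
    rw [injective_iff_map_eq_zero]
    intro z hz
    obtain ⟨w, rfl⟩ := ((rTensor_exact N
      (LinearMap.exact_subtype_ker_map π'.toLinearMap) hπ) z).1 hz
    clear hz
    induction w using TensorProduct.induction_on with
    | zero => simp
    | add a b ha hb => rw [map_add, ha, hb, add_zero]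
    | tmul b n =>
      obtain ⟨b, hb'⟩ := b
      have hb : b ∈ J.map (algebraMap S B) := hker hb'
      rw [LinearMap.rTensor_tmul, Submodule.subtype_apply]
      change b ⊗ₜ[S] n = 0
      clear hb'
      induction hb using Submodule.span_induction generalizing n with
      | zero => exact TensorProduct.zero_tmul _ _
      | add a c _ _ ha hc => rw [TensorProduct.add_tmul, ha, hc, add_zero]
      | mem a ha =>
        obtain ⟨s, hs, rfl⟩ := ha
        rw [Algebra.algebraMap_eq_smul_one, TensorProduct.smul_tmul, @hN n ⟨s, hs⟩,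
          TensorProduct.tmul_zero]
      | smul c a _ ha =>
        rw [smul_eq_mul, ← smul_eq_mul, ← TensorProduct.smul_tmul', ha, smul_zero]
  let j : C →ₗ[C] C' := Algebra.linearMap C C'
  let g₁ := AlgebraTensorModule.rTensor S N j
  have hker' : ∀ s : S, algebraMap S Sk s = 0 → s ∈ (J : Set S) := fun s hs => hJ hs
  let eSk := RingHom.quotientKerEquivOfSurjective hSk
  let q : Sk →+* S ⧸ RingHom.ker (algebraMap S Sk) := eSk.symm.toRingHom
  have hqs : ∀ s, q (algebraMap S Sk s) = Ideal.Quotient.mk _ s := fun s =>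
    eSk.symm_apply_eq.2 rfl
  let _ : Module (S ⧸ RingHom.ker (algebraMap S Sk)) N :=
    Module.IsTorsionBySet.module (fun n r => @hN n ⟨r.1, hJ r.2⟩)
  let _ : Module (S ⧸ RingHom.ker (algebraMap S Sk)) N' :=
    Module.IsTorsionBySet.module (fun n r => @hN' n ⟨r.1, hJ r.2⟩)
  let _ : Module Sk N := Module.compHom N q
  let _ : Module Sk N' := Module.compHom N' q
  have : IsScalarTower S Sk N := IsScalarTower.of_algebraMap_smul fun s n => by
    change q (algebraMap S Sk s) • n = s • n
    rw [hqs]; rfl
  have : IsScalarTower S Sk N' := IsScalarTower.of_algebraMap_smul fun s n => by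
    change q (algebraMap S Sk s) • n = s • n
    rw [hqs]; rfl
  let gk : N →ₗ[Sk] N' :=
    { g with
      map_smul' := fun r n => by
        obtain ⟨s, rfl⟩ := hSk r
        change g (algebraMap S Sk s • n) = algebraMap S Sk s • g n
        rw [algebraMap_smul, algebraMap_smul, map_smul] }
  have hflatC : Module.Flat Sk (Sk ⊗[S] C') := by
    let f : Sk ⊗[S] C' →ₗ[Sk] C' := (LinearMap.id : C' →ₗ[S] C').liftBaseChange Sk
    have key : ∀ z, z = (1 : Sk) ⊗ₜ[S] f z := by
      intro z
      induction z using TensorProduct.induction_on with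
      | zero => simp
      | add a b ha hb => rw [map_add, TensorProduct.tmul_add, ← ha, ← hb]
      | tmul r c =>
        obtain ⟨s, rfl⟩ := hSk r
        simp only [f, LinearMap.liftBaseChange_tmul, LinearMap.id_apply, algebraMap_smul]
        rw [TensorProduct.tmul_smul, TensorProduct.smul_tmul', ← Algebra.algebraMap_eq_smul_one]
    exact Module.Flat.of_linearEquiv (LinearEquiv.ofBijective f
      ⟨fun a b hab => by rw [key a, key b, hab], fun c => ⟨1 ⊗ₜ c, by simp [f]⟩⟩)
  have h1 := FlatH4.lTensor_injective_of_flat_baseChange (S := S) (M := C') hflatC gk hg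
  have h2 : g₁ (π'.toLinearMap.rTensor N x) = 0 := by
    refine h1 ?_
    rw [map_zero]
    have key : ∀ z, (gk.restrictScalars S).lTensor C' (g₁ (π'.toLinearMap.rTensor N z)) =
        AlgebraTensorModule.rTensor S N' j (π'.toLinearMap.rTensor N' (g.lTensor B z)) := by
      intro z
      induction z using TensorProduct.induction_on with
      | zero => simp
      | tmul b n => rfl
      | add a b ha hb => simp only [map_add, ha, hb]
    rw [key, hx, map_zero, map_zero]
  have : IsLocalizedModule Q'.primeCompl j :=
    isLocalizedModule_iff_isLocalization.2 (by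
      rw [Algebra.algebraMapSubmonoid_self]; infer_instance)
  obtain ⟨⟨c, hc⟩, hcx⟩ := (IsLocalizedModule.eq_zero_iff Q'.primeCompl g₁).1 h2
  obtain ⟨b, rfl⟩ := hπ c
  refine ⟨b, hc, hinj ?_⟩
  rw [map_zero]
  refine Eq.trans ?_ hcx
  clear hcx h2 hx
  induction x using TensorProduct.induction_on with
  | zero => simp
  | tmul b' n =>
    simp only [LinearMap.rTensor_tmul, Submonoid.mk_smul, TensorProduct.smul_tmul', smul_eq_mul]
    exact congrArg (fun z => z ⊗ₜ[S] n) (map_mul π b b')
  | add a b ha hb => simp only [smul_add, map_add, ha, hb]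

omit [Algebra.FinitePresentation A B] [Module.Flat A B] in
/-- Flatness over a polynomial ring passes to the algebra cut out by the variables. -/
theorem flat_localized_quotient {n : ℕ} [Algebra (MvPolynomial (Fin n) A) B]
    [IsScalarTower A (MvPolynomial (Fin n) A) B] (Q : Ideal B) [Q.IsPrime] (v : Fin n → B)
    (hv : ∀ i, algebraMap (MvPolynomial (Fin n) A) B (MvPolynomial.X i) = v i)
    (hQ : ∀ i, v i ∈ Q) [Module.Flat (MvPolynomial (Fin n) A) (LocalizedModule Q.primeCompl B)] :
    Module.Flat A (LocalizedModule Q.primeCompl (B ⧸ Ideal.span (Set.range v))) := by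
  let J := Ideal.span (Set.range v)
  let ε : MvPolynomial (Fin n) A →ₐ[A] A := MvPolynomial.aeval fun _ => (0 : A)
  let _ : Algebra (MvPolynomial (Fin n) A) A := ε.toRingHom.toAlgebra
  have hred : ∀ s : MvPolynomial (Fin n) A,
      Ideal.Quotient.mk J (algebraMap _ B s) = algebraMap A (B ⧸ J) (ε s) := by
    intro s
    induction s using MvPolynomial.induction_on with
    | C a =>
      rw [← MvPolynomial.algebraMap_eq, ← IsScalarTower.algebraMap_apply, ε.commutes]
      rfl
    | add p q hp hq => simp only [map_add, hp, hq]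
    | mul_X p i hp =>
      rw [map_mul, map_mul, hv, Ideal.Quotient.eq_zero_iff_mem.2 (Ideal.subset_span ⟨i, rfl⟩ : v i ∈ J),
        mul_zero, map_mul, MvPolynomial.aeval_X, mul_zero, map_zero]
  let fwd : A ⊗[MvPolynomial (Fin n) A] B →+ B ⧸ J := TensorProduct.liftAddHom
    { toFun := fun a => (DistribSMul.toAddMonoidHom (B ⧸ J) a).comp (Ideal.Quotient.mk J).toAddMonoidHom
      map_zero' := by ext b; simp
      map_add' := fun a b => by ext c; simp [add_smul] }
    (fun s a b => by
      change (ε s * a) • Ideal.Quotient.mk J b = a • Ideal.Quotient.mk J (s • b)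
      rw [mul_comm, mul_smul, Algebra.smul_def s b, map_mul, hred, Algebra.smul_def (ε s)])
  let bwd : B ⧸ J →+ A ⊗[MvPolynomial (Fin n) A] B :=
    QuotientAddGroup.lift J.toAddSubgroup
      ((TensorProduct.mk (MvPolynomial (Fin n) A) A B 1).toAddMonoidHom) (by
        intro b hb
        induction hb using Submodule.span_induction with
        | zero => exact map_zero _
        | add a c _ _ ha hc =>
          rw [AddMonoidHom.mem_ker, map_add, ha, hc, add_zero]
        | mem a ha =>
          obtain ⟨i, rfl⟩ := ha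
          rw [AddMonoidHom.mem_ker, ← hv, Algebra.algebraMap_eq_smul_one]
          refine (TensorProduct.tmul_smul _ _ _).trans ?_
          rw [TensorProduct.smul_tmul', Algebra.smul_def, mul_one]
          change (ε (MvPolynomial.X i)) ⊗ₜ[_] (1 : B) = 0
          rw [MvPolynomial.aeval_X, TensorProduct.zero_tmul]
        | smul c a _ ha =>
          rw [AddMonoidHom.mem_ker] at ha ⊢
          change (1 : A) ⊗ₜ[_] (c * a) = 0
          have h := congrArg (LinearMap.lTensor A (LinearMap.mulLeft (MvPolynomial (Fin n) A) c)) ha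
          rw [map_zero] at h
          exact h)
  have hfb : ∀ z, bwd (fwd z) = z := by
    intro z
    induction z using TensorProduct.induction_on with
    | zero => simp
    | add a b ha hb => simp only [map_add, ha, hb]
    | tmul a b =>
      change bwd (a • Ideal.Quotient.mk J b) = _
      rw [Algebra.smul_def, show algebraMap A (B ⧸ J) a = Ideal.Quotient.mk J (algebraMap A B a) from rfl,
        ← map_mul]
      change (1 : A) ⊗ₜ[_] (algebraMap A B a * b) = _
      rw [IsScalarTower.algebraMap_apply A (MvPolynomial (Fin n) A) B, ← Algebra.smul_def,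
        TensorProduct.tmul_smul, TensorProduct.smul_tmul', Algebra.smul_def, mul_one]
      congr 1
      exact ε.commutes a
  let e : A ⊗[MvPolynomial (Fin n) A] B ≃ₗ[A] B ⧸ J :=
    { fwd with
      map_smul' := fun a z => by
        induction z using TensorProduct.induction_on with
        | zero => simp
        | add z w hz hw =>
          simp only [RingHom.id_apply] at hz hw ⊢
          change fwd (a • (z + w)) = a • fwd (z + w)
          rw [smul_add, map_add, map_add, smul_add]
          exact congrArg₂ (· + ·) hz hw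
        | tmul c b =>
          change (a * c) • Ideal.Quotient.mk J b = a • c • Ideal.Quotient.mk J b
          exact mul_smul a c _
      invFun := bwd
      left_inv := hfb
      right_inv := fun z => by
        obtain ⟨b, rfl⟩ := Ideal.Quotient.mk_surjective z
        change (1 : A) • Ideal.Quotient.mk J b = _
        exact one_smul A _ }
  have hJQ : J ≤ Q := Ideal.span_le.2 (Set.range_subset_iff.2 hQ)
  let q := Q.map (Ideal.Quotient.mk J)
  have hqQ : q.comap (Ideal.Quotient.mk J) = Q := by
    rw [Ideal.comap_map_of_surjective _ Ideal.Quotient.mk_surjective, ← RingHom.ker_eq_comap_bot,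
      Ideal.mk_ker, sup_eq_left.2 hJQ]
  have : q.IsPrime :=
    Ideal.map_isPrime_of_surjective Ideal.Quotient.mk_surjective (by rwa [Ideal.mk_ker])
  have key : Module.Flat A (LocalizedModule q.primeCompl (B ⧸ J)) := by
    have : Module.Flat (MvPolynomial (Fin n) A)
        (LocalizedModule (q.comap (Ideal.Quotient.mk J)).primeCompl B) := by
      exact flat_congr_prime hqQ.symm ‹Module.Flat (MvPolynomial (Fin n) A) (LocalizedModule Q.primeCompl B)›
    exact FlatH4.flat_localized_baseChange A (Ideal.Quotient.mk J) q e fun s b => by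
      change (1 : A) • Ideal.Quotient.mk J (s * b) = Ideal.Quotient.mk J s • (1 : A) • Ideal.Quotient.mk J b
      rw [one_smul, one_smul, smul_eq_mul, map_mul]
  have h := (FlatH4.flat_localized_comap_iff (R := A) (M := B ⧸ J) (Ideal.Quotient.mkₐ A J)
    Ideal.Quotient.mk_surjective q (fun s m => rfl)).2 key
  exact flat_congr_prime hqQ h

/-- Slicing at a Cohen–Macaulay point of a fibre. -/
theorem exists_slice (σ : A' →+* B)
    (hext : ∀ {L : Type u} [CommRing L] (φ ψ : B →+* L),
      φ.comp (algebraMap A B) = ψ.comp (algebraMap A B) → φ.comp σ = ψ.comp σ → φ = ψ)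
    (m : Ideal A) [m.IsMaximal] (Q : Ideal B) [Q.IsMaximal] (hQm : Q.comap (algebraMap A B) = m)
    (hCM : ∀ (hQ : (Q.map (Ideal.Quotient.mk (m.map (algebraMap A B)))).IsPrime),
      LocCoh.IsCohenMacaulayLocalRing
        (Localization.AtPrime (Q.map (Ideal.Quotient.mk (m.map (algebraMap A B))))))
    {g : A'} (hg : g ∉ Q.comap σ)
    (hgp : ∀ P : Ideal A', P.IsPrime → Q.comap σ ≤ P → g ∉ P → P = Q.comap σ) :
    ∃ (n : ℕ) (f : Fin n → A'), (∀ i, f i ∈ Q.comap σ) ∧
      Module.Flat A (LocalizedModule Q.primeCompl (B ⧸ Ideal.span (Set.range (σ ∘ f)))) ∧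
      ∃ h ∉ Q, ∀ P : Ideal B, P.IsPrime → m.map (algebraMap A B) ≤ P →
        Ideal.span (Set.range (σ ∘ f)) ≤ P → h ∉ P → P = Q := by
  let k := A ⧸ m
  let _ : Field k := Ideal.Quotient.field m
  let mB := m.map (algebraMap A B)
  have hmQ : mB ≤ Q := Ideal.map_le_iff_le_comap.2 hQm.ge
  let C := B ⧸ mB
  let _ : Algebra k C := (Ideal.quotientMap mB (algebraMap A B) Ideal.le_comap_map).toAlgebra
  have : IsScalarTower A k C := IsScalarTower.of_algebraMap_eq fun a => rfl
  have : Algebra.FiniteType k C := Algebra.FiniteType.of_restrictScalars_finiteType A k C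
  have : IsNoetherianRing C := Algebra.FiniteType.isNoetherianRing k C
  let Q' := Q.map (Ideal.Quotient.mk mB)
  have hcomap : Q'.comap (Ideal.Quotient.mk mB) = Q := by
    rw [Ideal.comap_map_of_surjective _ Ideal.Quotient.mk_surjective, ← RingHom.ker_eq_comap_bot,
      Ideal.mk_ker, sup_eq_left.2 hmQ]
  have hQ' : Q'.IsPrime := Ideal.map_isPrime_of_surjective Ideal.Quotient.mk_surjective (by rwa [Ideal.mk_ker])
  let C' := Localization.AtPrime Q'
  have : LocCoh.IsCohenMacaulayLocalRing C' := hCM hQ'
  let φ : A' →+* C' := (algebraMap C C').comp ((Ideal.Quotient.mk mB).comp σ)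
  have hmem : ∀ a ∈ Q.comap σ, φ a ∈ maximalIdeal C' := fun a ha =>
    (IsLocalization.AtPrime.to_map_mem_maximal_iff C' Q' _).2 (Ideal.mem_map_of_mem _ ha)
  obtain ⟨d, hd⟩ := DepthLib.exists_supportDim_eq_natCast (R := C') (M := C')
  rw [Module.supportDim_self_eq_ringKrullDim] at hd
  obtain ⟨n, f, hf, hflat, hprimes⟩ := exists_flat_sequence (k := k) (Q.comap σ) d C' φ hd.le hmem
    (fun P hP h => by
      let P₀ := (P.comap (algebraMap C C')).comap (Ideal.Quotient.mk mB)
      have hP₀ : P₀ = Q := eq_of_le_of_comap σ hext m Q hg hgp P₀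
        (fun b hb => by
          change algebraMap C C' (Ideal.Quotient.mk mB b) ∈ P
          rw [Ideal.Quotient.eq_zero_iff_mem.2 hb, map_zero]; exact zero_mem _)
        h (by
          refine le_trans (Ideal.comap_mono (Ideal.comap_mono (le_maximalIdeal hP.ne_top))) ?_
          exact (congrArg (Ideal.comap (Ideal.Quotient.mk mB))
            (IsLocalization.AtPrime.under_maximalIdeal C' Q')).trans hcomap |>.le)
      rw [← IsLocalization.map_under Q'.primeCompl (S := C') P,
        ← IsLocalization.AtPrime.map_eq_maximalIdeal Q' C']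
      congr 1
      exact (Ideal.map_comap_of_surjective _ Ideal.Quotient.mk_surjective _).symm.trans
        (congrArg (Ideal.map (Ideal.Quotient.mk mB)) hP₀))
  refine ⟨n, f, hf, ?_, ?_⟩
  · let S := MvPolynomial (Fin n) A
    algebraize [(MvPolynomial.aeval (R := A) fun i => σ (f i)).toRingHom]
    have : IsScalarTower A S B := IsScalarTower.of_algebraMap_eq fun a =>
      ((MvPolynomial.aeval (R := A) fun i => σ (f i)).commutes a).symm
    have : Module.Flat A (LocalizedModule Q.primeCompl B) :=
      (FlatH4.flat_localized_iff Q).2 fun J x hx => ⟨1, Q.primeCompl.one_mem, by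
        rw [one_smul]
        exact Module.Flat.iff_lTensor_injective'.1 inferInstance J (hx.trans (map_zero _).symm)⟩
    have hS : Module.Flat S (LocalizedModule Q.primeCompl B) := by
      refine FlatH4.flat_localized_of_fibFlat_ft (A := A) (S := S) (T := B) (M := B) Q ?_
      rw [hQm]
      let Sk := MvPolynomial (Fin n) k
      let _ : Algebra S Sk := (MvPolynomial.map (Ideal.Quotient.mk m)).toAlgebra
      let _ : Algebra Sk C' := (MvPolynomial.aeval (R := k) fun i => φ (f i)).toRingHom.toAlgebra
      have : Module.Flat Sk C' := hflat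
      suffices h : FlatH4.FibFlat S B (m.map (algebraMap A S)) (Q'.comap (Ideal.Quotient.mk mB)) by
        rwa [hcomap] at h
      refine fibFlat_of_flat_localization (B := B) (S := S) (Sk := Sk)
        (MvPolynomial.map_surjective _ Ideal.Quotient.mk_surjective) (Ideal.Quotient.mk mB)
        Ideal.Quotient.mk_surjective (J := m.map (algebraMap A S)) ?_ ?_ Q' ?_
      · intro s hs
        rw [RingHom.mem_ker] at hs
        have : s ∈ RingHom.ker (MvPolynomial.map (σ := Fin n) (Ideal.Quotient.mk m)) := hs
        rw [MvPolynomial.ker_map, Ideal.mk_ker] at this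
        exact this
      · rw [Ideal.mk_ker, Ideal.map_map, ← IsScalarTower.algebraMap_eq]
      · intro s
        change (MvPolynomial.aeval fun i => φ (f i)) (MvPolynomial.map (Ideal.Quotient.mk m) s) =
          algebraMap C C' (Ideal.Quotient.mk mB ((MvPolynomial.aeval fun i => σ (f i)) s))
        induction s using MvPolynomial.induction_on with
        | C a =>
          rw [MvPolynomial.map_C, MvPolynomial.aeval_C, MvPolynomial.aeval_C,
            IsScalarTower.algebraMap_apply k C C']
          rfl
        | add p q hp hq => simp only [map_add, hp, hq]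
        | mul_X p i hp =>
          simp only [map_mul, hp, MvPolynomial.map_X, MvPolynomial.aeval_X]
          rfl
    exact flat_localized_quotient Q (σ ∘ f) (fun i => MvPolynomial.aeval_X _ i) hf
  · classical
    let J := Ideal.span (Set.range (σ ∘ f))
    have : IsNoetherianRing (B ⧸ mB) := inferInstanceAs (IsNoetherianRing C)
    let K := J.map (Ideal.Quotient.mk mB)
    have hfin : K.minimalPrimes.Finite := K.finite_minimalPrimes_of_isNoetherianRing
    have hsel : ∀ P₀ ∈ K.minimalPrimes, P₀ ≠ Q' → ∃ b ∉ Q, Ideal.Quotient.mk mB b ∈ P₀ := by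
      intro P₀ hP₀ hne
      have := hP₀.isPrime
      by_contra hcon
      push Not at hcon
      refine hne ?_
      have hle : P₀.comap (Ideal.Quotient.mk mB) ≤ Q := fun b hb => by
        by_contra hbQ; exact hcon b hbQ hb
      have hP' : P₀ ≤ Q' := by
        rw [← Ideal.map_comap_of_surjective _ Ideal.Quotient.mk_surjective P₀]
        exact Ideal.map_mono hle
      have hPC : (P₀.map (algebraMap C C')).IsPrime :=
        IsLocalization.isPrime_of_isPrime_disjoint Q'.primeCompl C' P₀ inferInstance
          (Set.disjoint_left.2 fun z hz hz' => hz (hP' hz'))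
      have h2 := hprimes _ hPC fun i => Ideal.mem_map_of_mem _
        (hP₀.1.2 (Ideal.mem_map_of_mem _ (Ideal.subset_span ⟨i, rfl⟩)))
      have h3 := congrArg (Ideal.comap (algebraMap C C')) h2
      rw [← Ideal.under_def, IsLocalization.under_map_of_isPrime_disjoint Q'.primeCompl C' inferInstance
          (Set.disjoint_left.2 fun z hz hz' => hz (hP' hz'))] at h3
      exact h3.trans (IsLocalization.AtPrime.under_maximalIdeal C' Q')
    choose! b hbQ hbP using hsel
    refine ⟨∏ P₀ ∈ hfin.toFinset.filter (· ≠ Q'), b P₀, fun hmem => ?_, fun P hP hm hJ hh => ?_⟩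
    · obtain ⟨P₀, hP₀, hb⟩ := (‹Q.IsMaximal›.isPrime.prod_mem_iff).1 hmem
      rw [Finset.mem_filter, Set.Finite.mem_toFinset] at hP₀
      exact hbQ P₀ hP₀.1 hP₀.2 hb
    · have hPm : (P.map (Ideal.Quotient.mk mB)).IsPrime :=
        Ideal.map_isPrime_of_surjective Ideal.Quotient.mk_surjective (by rwa [Ideal.mk_ker])
      have hPP : (P.map (Ideal.Quotient.mk mB)).comap (Ideal.Quotient.mk mB) = P := by
        rw [Ideal.comap_map_of_surjective _ Ideal.Quotient.mk_surjective, ← RingHom.ker_eq_comap_bot,
          Ideal.mk_ker, sup_eq_left.2 hm]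
      obtain ⟨P₀, hP₀, hle⟩ := Ideal.exists_minimalPrimes_le
        (Ideal.map_mono hJ : K ≤ P.map (Ideal.Quotient.mk mB))
      by_cases hne : P₀ = Q'
      · subst hne
        refine (‹Q.IsMaximal›.eq_of_le hP.ne_top ?_).symm
        rw [← hPP, ← hcomap]
        exact Ideal.comap_mono hle
      · refine absurd ?_ hh
        rw [← hPP]
        refine Ideal.mem_comap.2 (hle ?_)
        obtain ⟨w, hw⟩ := Finset.dvd_prod_of_mem b
          (Finset.mem_filter.2 ⟨hfin.mem_toFinset.2 hP₀, hne⟩ : P₀ ∈ hfin.toFinset.filter (· ≠ Q'))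
        rw [hw, map_mul]
        exact Ideal.mul_mem_right _ _ (hbP P₀ hP₀ hne)

end Groth.Agent.Slice
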