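import Groth.Agent.Lib.Slice.Local
import Groth.Agent.Lib.Slice.CMPoint
import Groth.Agent.Lib.Slice.Saturation
import Groth.Agent.Lib.FlatH4.FibreCritField

/-!
# Slicing a flat finitely presented equivalence relation
-/

universe u

set_option backward.isDefEq.respectTransparency.types false

open CategoryTheory CategoryTheory.Limits AlgebraicGeometry TensorProduct

namespace Groth.Agent.Slice

/-- Closed points of finite type algebras lie over locally closed points. -/
theorem exists_notMem_forall_eq {A B : Type u} [CommRing A] [CommRing B] (σ : A →+* B)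
    (hσ : σ.FiniteType) (Q : Ideal B) [Q.IsMaximal] :
    ∃ g ∉ Q.comap σ, ∀ P : Ideal A, P.IsPrime → Q.comap σ ≤ P → g ∉ P → P = Q.comap σ := by
  let p := Q.comap σ
  have : p.IsPrime := ‹Q.IsMaximal›.isPrime.comap σ
  let A₀ := A ⧸ p
  let L := B ⧸ Q
  let _ : Field L := Ideal.Quotient.field Q
  let φ : A₀ →+* L := Ideal.quotientMap Q σ le_rfl
  have hφ : Function.Injective φ := Ideal.quotientMap_injective
  let _ : Algebra A₀ L := φ.toAlgebra
  have : Algebra.FiniteType A₀ L := by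
    have h1 : (φ.comp (Ideal.Quotient.mk p)).FiniteType := by
      change ((Ideal.Quotient.mk Q).comp σ).FiniteType
      exact RingHom.FiniteType.comp_surjective hσ Ideal.Quotient.mk_surjective
    exact RingHom.FiniteType.of_comp_finiteType h1
  have : IsDomain A₀ := Ideal.Quotient.isDomain p
  obtain ⟨g, hg, hfree⟩ := FlatH4.exists_free_and_finitePresentation (R := A₀) (S := L)
  obtain ⟨g₀, rfl⟩ := Ideal.Quotient.mk_surjective g
  set g := Ideal.Quotient.mk p g₀
  refine ⟨g₀, fun h => hg (Ideal.Quotient.eq_zero_iff_mem.2 h), fun P hP hpP hgP => ?_⟩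
  refine le_antisymm (fun a ha => ?_) hpP
  by_contra hap
  let R' := Localization.Away g
  obtain ⟨hfr, -⟩ := hfree R' (IsLocalization.Away.algebraMap_isUnit g)
  have : Nontrivial (R' ⊗[A₀] L) := by
    let l : R' →ₐ[A₀] L := IsLocalization.liftAlgHom (M := Submonoid.powers g) (f := Algebra.ofId A₀ L)
      fun y => isUnit_iff_ne_zero.2 fun h => by
        obtain ⟨_, n, rfl⟩ := y
        exact pow_ne_zero n hg (hφ (h.trans (map_zero φ).symm))
    exact (Algebra.TensorProduct.lift l (AlgHom.id A₀ L) fun _ _ => .all _ _).toRingHom.domain_nontrivial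
  let a₀ := Ideal.Quotient.mk p a
  have hu : IsUnit (algebraMap A₀ R' a₀) := by
    by_contra hcon
    obtain ⟨M, hM, haM⟩ := exists_max_ideal_of_mem_nonunits hcon
    refine Module.FaithfullyFlat.submodule_ne_top (R := R') (M := R' ⊗[A₀] L) hM ?_
    have hne : φ a₀ ≠ 0 := fun h => hap (Ideal.Quotient.eq_zero_iff_mem.1 (hφ (h.trans (map_zero φ).symm)))
    refine eq_top_iff.2 fun z _ => ?_
    have hz : z = algebraMap A₀ R' a₀ • (((1 : R') ⊗ₜ[A₀] (φ a₀)⁻¹) * z) := by
      rw [algebraMap_smul, ← smul_mul_assoc, ← tmul_smul, Algebra.smul_def,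
        show algebraMap A₀ L a₀ = φ a₀ from rfl, mul_inv_cancel₀ hne]
      exact (one_mul z).symm
    rw [hz]
    exact Submodule.smul_mem_smul haM trivial
  obtain ⟨b, hb⟩ := hu.exists_right_inv
  obtain ⟨⟨c, _, n, rfl⟩, hc⟩ := IsLocalization.surj (Submonoid.powers g) b
  have h2 : algebraMap A₀ R' (g ^ n) = algebraMap A₀ R' (a₀ * c) := by
    rw [map_mul, ← hc, ← mul_assoc, hb, one_mul]
  obtain ⟨⟨_, m, rfl⟩, hc'⟩ := (IsLocalization.eq_iff_exists (Submonoid.powers g) R').1 h2
  obtain ⟨c₀, rfl⟩ := Ideal.Quotient.mk_surjective c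
  have h3 : g₀ ^ m * g₀ ^ n - g₀ ^ m * (a * c₀) ∈ P := hpP (Ideal.Quotient.eq.1 (by
    simpa only [map_mul, map_pow] using hc'))
  have h4 : g₀ ^ m * g₀ ^ n ∈ P := by
    have := P.add_mem h3 (P.mul_mem_left (g₀ ^ m) (P.mul_mem_right c₀ ha))
    rwa [sub_add_cancel] at this
  rw [← pow_add] at h4
  exact hgP (hP.mem_of_pow_mem _ h4)

theorem isCM_congr {C : Type u} [CommRing C] {Q₁ Q₂ : Ideal C} [Q₁.IsPrime] [Q₂.IsPrime] (e : Q₂ = Q₁)
    (h : LocCoh.IsCohenMacaulayLocalRing (Localization.AtPrime Q₂)) :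
    LocCoh.IsCohenMacaulayLocalRing (Localization.AtPrime Q₁) := by
  subst e
  exact h

variable {U R : Scheme.{u}} {s t : R ⟶ U}

/-- A slice through a Cohen–Macaulay point of the orbit of a locally closed point. -/
theorem exists_slice_at (h : FinQuot.SchEqv s t) [Flat s] [LocallyOfFinitePresentation s] [Flat t]
    [LocallyOfFinitePresentation t] (u : U) (V : U.Opens) (hV : IsAffineOpen V) (huV : u ∈ V)
    (hu : (hV.primeIdealOf ⟨u, huV⟩).asIdeal.IsMaximal) :
    ∃ (Y : Scheme.{u}) (g : Y ⟶ U), IsAffine Y ∧ LocallyOfFinitePresentation g ∧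
      (∀ r, GoodAt (pullback.snd g s ≫ t) r) ∧ u ∈ Set.range (pullback.snd g s ≫ t) := by
  obtain ⟨e, he₁, he₂⟩ := h.refl
  have hes : s (e u) = u := by rw [← Scheme.Hom.comp_apply, he₁]; rfl
  have het : t (e u) = u := by rw [← Scheme.Hom.comp_apply, he₂]; rfl
  obtain ⟨_, ⟨W, hW, rfl⟩, huW, -⟩ :=
    U.isBasis_affineOpens.exists_subset_of_mem_open (Set.mem_univ u) isOpen_univ
  obtain ⟨_, ⟨O, hO, rfl⟩, heO, hOsub⟩ := R.isBasis_affineOpens.exists_subset_of_mem_open
    (show e u ∈ t ⁻¹ᵁ V ⊓ s ⁻¹ᵁ W from ⟨show t (e u) ∈ V from het.symm ▸ huV,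
      show s (e u) ∈ W from hes.symm ▸ huW⟩) (t ⁻¹ᵁ V ⊓ s ⁻¹ᵁ W).2
  have hOV : O ≤ t ⁻¹ᵁ V := fun z hz => (hOsub hz).1
  have hOW : O ≤ s ⁻¹ᵁ W := fun z hz => (hOsub hz).2
  let A := Γ(U, V)
  let A' := Γ(U, W)
  let B := Γ(R, O)
  let σ : A' →+* B := (s.appLE W O hOW).hom
  let _ : Algebra A B := (t.appLE V O hOV).hom.toAlgebra
  have hσ : σ.FiniteType :=
    HasRingHomProperty.appLE @LocallyOfFiniteType s inferInstance ⟨W, hW⟩ ⟨O, hO⟩ hOW
  have hfp : Algebra.FinitePresentation A B :=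
    HasRingHomProperty.appLE @LocallyOfFinitePresentation t inferInstance ⟨V, hV⟩ ⟨O, hO⟩ hOV
  have hflatAB : Module.Flat A B :=
    HasRingHomProperty.appLE @Flat t inferInstance ⟨V, hV⟩ ⟨O, hO⟩ hOV
  let κW := hW.fromSpec
  let κO := hO.fromSpec
  have hcs : Spec.map (CommRingCat.ofHom σ) ≫ κW = κO ≫ s :=
    IsAffineOpen.SpecMap_appLE_fromSpec s hW hO hOW
  have hct : Spec.map (CommRingCat.ofHom (algebraMap A B)) ≫ hV.fromSpec = κO ≫ t :=
    IsAffineOpen.SpecMap_appLE_fromSpec t hV hO hOV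
  have hext : ∀ {L : Type u} [CommRing L] (φ ψ : B →+* L),
      φ.comp (algebraMap A B) = ψ.comp (algebraMap A B) → φ.comp σ = ψ.comp σ → φ = ψ := by
    intro L _ φ ψ h₁ h₂
    refine congrArg CommRingCat.Hom.hom (Spec.map_injective ((cancel_mono κO).1 (h.ext
      (Spec.map (CommRingCat.ofHom φ) ≫ κO) (Spec.map (CommRingCat.ofHom ψ) ≫ κO) ?_ ?_)))
    · rw [Category.assoc, Category.assoc, ← hcs, ← Category.assoc, ← Category.assoc, ← Spec.map_comp,
        ← Spec.map_comp, ← CommRingCat.ofHom_comp, ← CommRingCat.ofHom_comp, h₂]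
    · rw [Category.assoc, Category.assoc, ← hct, ← Category.assoc, ← Category.assoc, ← Spec.map_comp,
        ← Spec.map_comp, ← CommRingCat.ofHom_comp, ← CommRingCat.ofHom_comp, h₁]
  let m := (hV.primeIdealOf ⟨u, huV⟩).asIdeal
  have : m.IsMaximal := hu
  let mB := m.map (algebraMap A B)
  have hne : Nontrivial (B ⧸ mB) := by
    refine Ideal.Quotient.nontrivial_iff.2 fun htop => ?_
    have h1 := congr(($(IsAffineOpen.comap_primeIdealOf_appLE (f := t) V hV O hO hOV heO)).asIdeal)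
    have h2 : mB ≤ (hO.primeIdealOf ⟨e u, heO⟩).asIdeal := by
      refine Ideal.map_le_iff_le_comap.2 (le_of_eq ?_)
      refine Eq.trans ?_ h1.symm
      exact congrArg PrimeSpectrum.asIdeal (congrArg hV.primeIdealOf (Subtype.ext het.symm))
    exact (hO.primeIdealOf ⟨e u, heO⟩).isPrime.ne_top (top_le_iff.1 (htop ▸ h2))
  let k := A ⧸ m
  let _ : Field k := Ideal.Quotient.field m
  let _ : Algebra k (B ⧸ mB) := (Ideal.quotientMap mB (algebraMap A B) Ideal.le_comap_map).toAlgebra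
  have : IsScalarTower A k (B ⧸ mB) :=
    IsScalarTower.of_algebraMap_eq (R := A) (S := k) (A := B ⧸ mB) fun a => rfl
  have : Algebra.FiniteType k (B ⧸ mB) := Algebra.FiniteType.of_restrictScalars_finiteType A k _
  obtain ⟨Qc, hQc, hCM⟩ := exists_isCM_closed_point k (B ⧸ mB)
  let Q := Qc.comap (Ideal.Quotient.mk mB)
  have hQmax : Q.IsMaximal := Ideal.comap_isMaximal_of_surjective _ Ideal.Quotient.mk_surjective
  have hQmap : Q.map (Ideal.Quotient.mk mB) = Qc :=
    Ideal.map_comap_of_surjective _ Ideal.Quotient.mk_surjective _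
  have hmBQ : mB ≤ Q := fun b hb => by
    rw [Ideal.mem_comap, Ideal.Quotient.eq_zero_iff_mem.2 hb]; exact zero_mem _
  have hQm : Q.comap (algebraMap A B) = m :=
    (hu.eq_of_le (hQmax.isPrime.comap _).ne_top (Ideal.map_le_iff_le_comap.1 hmBQ)).symm
  obtain ⟨g', hg', hgp⟩ := exists_notMem_forall_eq σ hσ Q
  obtain ⟨n, f, hf, hflat, w, hw, hiso⟩ := exists_slice σ hext m Q hQm
    (fun hQ => isCM_congr hQmap.symm hCM) hg' hgp
  let I := Ideal.span (Set.range f)
  let J := Ideal.span (Set.range (σ ∘ f))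
  have hJ : I.map σ = J := by rw [Ideal.map_span, ← Set.range_comp]
  let σ' : A' ⧸ I →+* B ⧸ J := Ideal.quotientMap J σ (Ideal.map_le_iff_le_comap.1 hJ.le)
  let Y₀ := Spec (CommRingCat.of (A' ⧸ I))
  let g₀ : Y₀ ⟶ U := Spec.map (CommRingCat.ofHom (Ideal.Quotient.mk I)) ≫ κW
  have : Algebra.FinitePresentation A' (A' ⧸ I) :=
    Algebra.FinitePresentation.quotient (Submodule.fg_span (Set.finite_range f))
  have : LocallyOfFinitePresentation (Spec.map (CommRingCat.ofHom (Ideal.Quotient.mk I))) :=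
    (HasRingHomProperty.Spec_iff (P := @LocallyOfFinitePresentation)).2
      (RingHom.finitePresentation_algebraMap.2 this)
  have hpo : IsPushout (CommRingCat.ofHom (Ideal.Quotient.mk I)) (CommRingCat.ofHom σ)
      (CommRingCat.ofHom σ') (CommRingCat.ofHom (Ideal.Quotient.mk J)) := by
    refine ⟨⟨?_⟩, ⟨PushoutCocone.IsColimit.mk _ (fun c => CommRingCat.ofHom
      (Ideal.Quotient.lift J c.inr.hom ?_)) ?_ ?_ ?_⟩⟩
    · ext a; rfl
    · intro b hb
      induction hb using Submodule.span_induction with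
      | zero => exact map_zero _
      | add x y _ _ hx hy => rw [map_add, hx, hy, add_zero]
      | smul x y _ hy => rw [smul_eq_mul, map_mul, hy, mul_zero]
      | mem x hx =>
        obtain ⟨i, rfl⟩ := hx
        have := congrArg (fun q : CommRingCat.of A' ⟶ c.pt => q.hom (f i)) c.condition
        refine Eq.trans this.symm ?_
        change c.inl.hom (Ideal.Quotient.mk I (f i)) = 0
        rw [Ideal.Quotient.eq_zero_iff_mem.2 (Ideal.subset_span (Set.mem_range_self i)), map_zero]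
    · intro c
      ext a
      exact (congrArg (fun q : CommRingCat.of A' ⟶ c.pt => q.hom a) c.condition).symm
    · intro c; ext b; rfl
    · intro c l hl₁ hl₂
      ext b
      exact congrArg (fun q : CommRingCat.of B ⟶ c.pt => q.hom b) hl₂
  have sqA : IsPullback (Spec.map (CommRingCat.ofHom σ'))
      (Spec.map (CommRingCat.ofHom (Ideal.Quotient.mk J))) g₀ (κO ≫ s) := by
    rw [← hcs]
    refine ⟨⟨?_⟩, ⟨PullbackCone.IsLimit.mk _
      (fun c => (isPullback_SpecMap_of_isPushout _ _ _ _ hpo).lift c.fst c.snd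
        ((cancel_mono κW).1 (by simpa [g₀] using c.condition)))
      (fun c => IsPullback.lift_fst _ _ _ _) (fun c => IsPullback.lift_snd _ _ _ _)
      fun c l hl₁ hl₂ => (isPullback_SpecMap_of_isPushout _ _ _ _ hpo).hom_ext ?_ ?_⟩⟩
    · simp only [g₀]
      rw [← Category.assoc, (isPullback_SpecMap_of_isPushout _ _ _ _ hpo).w, Category.assoc]
    · rw [IsPullback.lift_fst]; exact hl₁
    · rw [IsPullback.lift_snd]; exact hl₂
  let κ := pullback.lift (f := g₀) (g := s) (Spec.map (CommRingCat.ofHom σ'))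
    (Spec.map (CommRingCat.ofHom (Ideal.Quotient.mk J)) ≫ κO)
    (by rw [Category.assoc]; exact sqA.w)
  have sqB : IsPullback κ (Spec.map (CommRingCat.ofHom (Ideal.Quotient.mk J))) (pullback.snd g₀ s) κO :=
    IsPullback.of_right (by rw [pullback.lift_fst]; exact sqA) (pullback.lift_snd _ _ _)
      (IsPullback.of_hasPullback g₀ s)
  have : IsOpenImmersion κ := MorphismProperty.of_isPullback (P := @IsOpenImmersion) sqB.flip inferInstance
  let qJ : PrimeSpectrum (B ⧸ J) := ⟨Q.map (Ideal.Quotient.mk J),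
    Ideal.map_isPrime_of_surjective Ideal.Quotient.mk_surjective
      (by rw [Ideal.mk_ker]; exact Ideal.span_le.2 (Set.range_subset_iff.2 hf))⟩
  have : qJ.asIdeal.IsPrime := qJ.isPrime
  have hJQ : J ≤ Q := Ideal.span_le.2 (Set.range_subset_iff.2 hf)
  have hqJ : qJ.asIdeal.comap (Ideal.Quotient.mk J) = Q := by
    rw [Ideal.comap_map_of_surjective _ Ideal.Quotient.mk_surjective, ← RingHom.ker_eq_comap_bot,
      Ideal.mk_ker, sup_eq_left.2 hJQ]
  let hh := pullback.snd g₀ s ≫ t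
  have : LocallyOfFinitePresentation hh := inferInstance
  have hκ : κ ≫ hh = Spec.map (CommRingCat.ofHom (algebraMap A (B ⧸ J))) ≫ hV.fromSpec := by
    simp only [hh, κ]
    rw [pullback.lift_snd_assoc, Category.assoc, ← hct, ← Category.assoc, ← Spec.map_comp]
    rfl
  have hGoodSpec : GoodAt (Spec.map (CommRingCat.ofHom (algebraMap A (B ⧸ J)))) qJ := by
    constructor
    · refine (FlatH4.flat_stalkMap_SpecMap_iff (S := B ⧸ J) qJ).2 ?_
      have h1 : Module.Flat A (LocalizedModule (qJ.asIdeal.comap (Ideal.Quotient.mkₐ A J)).primeCompl (B ⧸ J)) :=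
        flat_congr_prime (hqJ.symm) hflat
      exact (FlatH4.flat_localized_comap_iff (R := A) (M := B ⧸ J) (Ideal.Quotient.mkₐ A J)
        Ideal.Quotient.mk_surjective qJ.asIdeal (fun s m => rfl)).1 h1
    · let ψ := Spec.map (CommRingCat.ofHom (algebraMap A (B ⧸ J)))
      have : LocallyOfFiniteType ψ := (HasRingHomProperty.Spec_iff (P := @LocallyOfFiniteType)).2
        (RingHom.finiteType_algebraMap.2 inferInstance)
      rw [Scheme.Hom.quasiFiniteAt_iff_isOpen_singleton_asFiber, ← (ψ.fiberHomeo (ψ qJ)).isOpen_image,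
        Set.image_singleton]
      refine isOpen_induced_iff.2 ⟨(show Set ↥(Spec (CommRingCat.of (B ⧸ J))) from
        ((PrimeSpectrum.basicOpen (Ideal.Quotient.mk J w) : TopologicalSpace.Opens (PrimeSpectrum (B ⧸ J))) :
          Set (PrimeSpectrum (B ⧸ J)))),
        (PrimeSpectrum.basicOpen (Ideal.Quotient.mk J w)).2, ?_⟩
      ext ⟨z, hz⟩
      rw [Set.mem_singleton_iff, Scheme.Hom.asFiber, Homeomorph.apply_symm_apply, Subtype.ext_iff]
      constructor
      · intro hzw
        have hzm : Ideal.comap (algebraMap A (B ⧸ J)) (z : PrimeSpectrum (B ⧸ J)).asIdeal = m :=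
          (congrArg PrimeSpectrum.asIdeal hz).trans (by
            change (qJ.asIdeal).comap (algebraMap A (B ⧸ J)) = m
            rw [show algebraMap A (B ⧸ J) = (Ideal.Quotient.mk J).comp (algebraMap A B) from rfl,
              ← Ideal.comap_comap, hqJ, hQm])
        have key := hiso ((z : PrimeSpectrum (B ⧸ J)).asIdeal.comap (Ideal.Quotient.mk J))
          ((z : PrimeSpectrum (B ⧸ J)).isPrime.comap _)
          (Ideal.map_le_iff_le_comap.2 (by rw [Ideal.comap_comap]; exact hzm.ge))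
          (fun b hb => by
            rw [Ideal.mem_comap, Ideal.Quotient.eq_zero_iff_mem.2 hb]; exact zero_mem _) hzw
        refine PrimeSpectrum.ext ?_
        rw [← Ideal.map_comap_of_surjective _ Ideal.Quotient.mk_surjective
          (z : PrimeSpectrum (B ⧸ J)).asIdeal, key]
      · intro e'
        change Ideal.Quotient.mk J w ∉ (z : PrimeSpectrum (B ⧸ J)).asIdeal
        rw [show (z : PrimeSpectrum (B ⧸ J)) = qJ from e']
        intro hwq
        exact hw (hqJ ▸ hwq)
  have hqVm : hV.fromSpec (Spec.map (CommRingCat.ofHom (algebraMap A (B ⧸ J))) qJ) = u := by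
    refine Eq.trans (congrArg hV.fromSpec ?_) (hV.fromSpec_primeIdealOf ⟨u, huV⟩)
    refine PrimeSpectrum.ext ?_
    change (qJ.asIdeal).comap (algebraMap A (B ⧸ J)) = m
    rw [show algebraMap A (B ⧸ J) = (Ideal.Quotient.mk J).comp (algebraMap A B) from rfl,
      ← Ideal.comap_comap, hqJ, hQm]
  let r : ↥(pullback g₀ s) := κ qJ
  have hr : GoodAt hh r := by
    rw [← goodAt_comp_left_iff, hκ, goodAt_comp_right_iff]
    exact hGoodSpec
  let Ω : (pullback g₀ s).Opens := ⟨{r | GoodAt hh r}, isOpen_goodAt hh⟩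
  let Y' : Y₀.Opens := ⟨pullback.fst g₀ s '' {r | GoodAt hh r},
    (pullback.fst g₀ s).isOpenMap _ (isOpen_goodAt hh)⟩
  obtain ⟨_, ⟨Z₀, hZ, rfl⟩, hrZ, hZY⟩ := Y₀.isBasis_affineOpens.exists_subset_of_mem_open
    (show pullback.fst g₀ s r ∈ Y' from ⟨r, hr, rfl⟩) Y'.2
  let Z : Y₀.Opens := Z₀
  have : IsAffine Z.toScheme := hZ
  let j := pullback.map (Z.ι ≫ g₀) s g₀ s Z.ι (𝟙 R) (𝟙 U) (by simp) (by simp)
  have hj₁ : pullback.snd (Z.ι ≫ g₀) s = j ≫ pullback.snd g₀ s :=
    ((pullback.lift_snd _ _ _).trans (Category.comp_id _)).symm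
  have hj₂ : j ≫ pullback.fst g₀ s = pullback.fst (Z.ι ≫ g₀) s ≫ Z.ι := pullback.lift_fst _ _ _
  have sqj : IsPullback j (pullback.fst (Z.ι ≫ g₀) s) (pullback.fst g₀ s) Z.ι :=
    IsPullback.of_right (hj₁ ▸ (IsPullback.of_hasPullback (Z.ι ≫ g₀) s).flip) hj₂
      (IsPullback.of_hasPullback g₀ s).flip
  refine ⟨Z, Z.ι ≫ g₀, hZ, inferInstance, fun x => ?_, ?_⟩
  · rw [hj₁, Category.assoc]
    have : IsOpenImmersion j := MorphismProperty.of_isPullback (P := @IsOpenImmersion) sqj.flip inferInstance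
    rw [goodAt_comp_left_iff]
    obtain ⟨r₁, hr₁, hr₂⟩ := hZY (pullback.fst (Z.ι ≫ g₀) s x).2
    exact goodAt_of_fst_eq h g₀ (hr₂.trans (by rw [← Scheme.Hom.comp_apply, hj₂, Scheme.Hom.comp_apply]; rfl)) hr₁
  · have hru : hh r = u := by
      change (κ ≫ hh) qJ = u
      rw [hκ]
      exact hqVm
    obtain ⟨x, -, hx⟩ := Scheme.Pullback.exists_preimage_pullback (f := Z.ι ≫ g₀) (g := s)
      (⟨_, hrZ⟩ : Z) (pullback.snd g₀ s r) (by
        change (pullback.fst g₀ s ≫ g₀) r = _
        rw [pullback.condition]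
        rfl)
    refine ⟨x, ?_⟩
    rw [Scheme.Hom.comp_apply, hx, ← Scheme.Hom.comp_apply]
    exact hru

end Groth.Agent.Slice
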